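import Cfsg.Agent.H5.EvenCyclic.Basic
import Cfsg.Agent.H56.OutPSL

/-!
# Groups between `PSL(2, q)` and its automorphism group

With the hypothesis on cyclic subgroups of even order, only `PSL(2, q)` and `PGL(2, q)` remain.
-/

set_option autoImplicit false
set_option linter.unusedSectionVars false
set_option linter.style.haveILetI false

namespace Cfsg.Agent.H5.EvenCyclic

open Subgroup Cfsg.Agent.H56

universe u

section field

variable {F : Type} [Field F] [Fintype F]

theorem two_ne_zero_of_odd (hodd : Odd (Fintype.card F)) : ringChar F ≠ 2 := by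
  intro h
  have := FiniteField.even_card_iff_char_two.1 h
  have h1 := Nat.odd_iff.1 hodd
  omega

theorem exists_sq_of_not_sq (hodd : Odd (Fintype.card F)) {a b : Fˣ}
    (ha : ¬ IsSquare (a : F)) (hb : ¬ IsSquare (b : F)) : ∃ c : Fˣ, a * b = c * c := by
  classical
  have hF := two_ne_zero_of_odd hodd
  have h1 := (quadraticChar_neg_one_iff_not_isSquare (F := F)).2 ha
  have h2 := (quadraticChar_neg_one_iff_not_isSquare (F := F)).2 hb
  have h3 : quadraticChar F ((a : F) * b) = 1 := by rw [map_mul, h1, h2]; norm_num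
  obtain ⟨c, hc⟩ := (quadraticChar_one_iff_isSquare (mul_ne_zero a.ne_zero b.ne_zero)).1 h3
  have hc0 : c ≠ 0 := by
    rintro rfl
    rw [mul_zero] at hc
    exact mul_ne_zero a.ne_zero b.ne_zero hc
  exact ⟨Units.mk0 c hc0, Units.ext hc⟩

theorem exists_sq_iff {a : Fˣ} : IsSquare (a : F) ↔ ∃ c : Fˣ, a = c * c := by
  constructor
  · rintro ⟨c, hc⟩
    have hc0 : c ≠ 0 := by
      rintro rfl
      rw [mul_zero] at hc
      exact a.ne_zero hc
    exact ⟨Units.mk0 c hc0, Units.ext hc⟩
  · rintro ⟨c, rfl⟩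
    exact ⟨c, rfl⟩

/-- An element that is not a square times its image under an involutory automorphism is not one. -/
theorem mul_image_ne_one (hodd : Odd (Fintype.card F)) (σ : F ≃+* F) (hσσ : ∀ x, σ (σ x) = x)
    (hσ : σ ≠ RingEquiv.refl F) {ν : F} (hν : ¬ IsSquare ν) : ν * σ ν ≠ 1 := by
  intro h
  have hν0 : ν ≠ 0 := fun e => hν (e ▸ ⟨0, by simp⟩)
  obtain ⟨a, ha⟩ : ∃ a : F, a + ν * σ a ≠ 0 := by
    by_contra hcon
    push Not at hcon
    have h1 := hcon 1
    rw [map_one, mul_one] at h1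
    refine hσ (RingEquiv.ext fun a => ?_)
    have h2 := hcon a
    rw [show ν = -1 by linear_combination h1] at h2
    show σ a = a
    linear_combination -h2
  set z := a + ν * σ a with hz
  have hσz : ν * σ z = z := by
    rw [hz, map_add, map_mul, hσσ]
    linear_combination a * h
  have hσz0 : σ z ≠ 0 := fun e => ha (σ.injective (e.trans (map_zero σ).symm))
  apply hν
  rw [show ν = z / σ z by rw [eq_div_iff hσz0]; exact hσz]
  classical
  rcases em (IsSquare z) with hsq | hsq
  · exact hsq.div (hsq.map σ)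
  · have hsq' : ¬ IsSquare (σ z) := fun hs => hsq (by
      have := hs.map σ
      rwa [hσσ] at this)
    obtain ⟨c, hc⟩ := exists_sq_of_not_sq hodd (a := Units.mk0 z ha)
      (b := (Units.mk0 (σ z) hσz0)⁻¹) hsq
      (fun hs => hsq' (by simpa using hs.inv))
    exact ⟨c, by simpa [div_eq_mul_inv] using congrArg Units.val hc⟩

end field

variable {F : Type} [Field F] [Fintype F]

/-- The field automorphisms acting on `PSL(2, F)`. -/
noncomputable def fldAut : RingAut F →* MulAut (PSLn 2 F) :=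
  MonoidHom.mk' (fun σ => semiAut 1 σ) fun σ τ => by
    rw [semiAut_mul, map_one, one_mul]
    rfl

theorem fldAut_apply (σ : F ≃+* F) : fldAut σ = semiAut (n := 2) 1 σ := rfl

theorem fldAut_injective : Function.Injective (fldAut (F := F)) := by
  refine (injective_iff_map_eq_one _).2 fun σ h => ?_
  exact (eq_of_semiAut_eq_one le_rfl h).1

/-- The conjugations by `GL(2, F)`. -/
noncomputable abbrev linAut : GL (Fin 2) F →* MulAut (PSLn 2 F) := pglToAut le_rfl

theorem linAut_apply (g : GL (Fin 2) F) : linAut g = semiAut g (RingEquiv.refl F) := rfl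

theorem semiAut_eq (g : GL (Fin 2) F) (σ : F ≃+* F) : semiAut g σ = linAut g * fldAut σ := by
  rw [linAut_apply, fldAut_apply, semiAut_mul, map_one, mul_one]
  rfl

theorem fld_mul_lin (g : GL (Fin 2) F) (σ : F ≃+* F) :
    fldAut σ * linAut g = linAut (glMap σ g) * fldAut σ := by
  rw [← semiAut_eq, linAut_apply, fldAut_apply, semiAut_mul, one_mul]
  rfl

theorem linAut_scalar (c : Fˣ) :
    linAut (Matrix.GeneralLinearGroup.scalar (Fin 2) c) = (1 : MulAut (PSLn 2 F)) :=
  semiAut_scalar c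

theorem linAut_toGL (s : SLn 2 F) :
    linAut (Matrix.SpecialLinearGroup.toGL s) = MulAut.conj (toP s) := semiAut_eq_conj s

variable (F) in
/-- `diag(c, 1)`. -/
noncomputable def dgl : Fˣ →* GL (Fin 2) F :=
  MonoidHom.mk' (fun c => Linear.diagGL ![c, 1]) fun a b => by
    rw [← Linear.diagGL_mul]
    congr 1
    funext i
    fin_cases i <;> simp

theorem dgl_coe (c : Fˣ) : (dgl F c : Matrix (Fin 2) (Fin 2) F) = !![(c : F), 0; 0, 1] := by
  show ((Linear.diagGL ![c, 1] : GL (Fin 2) F) : Matrix (Fin 2) (Fin 2) F) = _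
  rw [Linear.diagGL_coe]
  ext i j
  fin_cases i <;> fin_cases j <;> simp

theorem det_dgl (c : Fˣ) : Matrix.GeneralLinearGroup.det (dgl F c) = c := by
  apply Units.ext
  rw [Matrix.GeneralLinearGroup.val_det_apply, dgl_coe, Matrix.det_fin_two_of]
  simp

theorem linAut_dgl_injective : Function.Injective ((linAut (F := F)).comp (dgl F)) := by
  refine (injective_iff_map_eq_one _).2 fun c h => ?_
  obtain ⟨-, d, hd⟩ := eq_of_semiAut_eq_one le_rfl (show semiAut (dgl F c) (RingEquiv.refl F) = 1 from h)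
  have hd' := congrArg (fun M : GL (Fin 2) F => (M : Matrix (Fin 2) (Fin 2) F)) hd
  simp only [dgl_coe, Matrix.GeneralLinearGroup.coe_scalar] at hd'
  have h00 := congrFun (congrFun hd' 0) 0
  have h11 := congrFun (congrFun hd' 1) 1
  simp at h00 h11
  exact Units.ext (by rw [h00, ← h11]; rfl)

theorem glMap_dgl (σ : F ≃+* F) (c : Fˣ) :
    glMap σ (dgl F c) = dgl F (Units.map (σ : F →* F) c) := by
  apply Units.ext
  rw [glMap_coe, dgl_coe, dgl_coe]
  ext i j
  fin_cases i <;> fin_cases j <;> simp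

theorem det_glMap (σ : F ≃+* F) (g : GL (Fin 2) F) :
    Matrix.GeneralLinearGroup.det (glMap σ g) =
      Units.map (σ : F →* F) (Matrix.GeneralLinearGroup.det g) := by
  apply Units.ext
  rw [Matrix.GeneralLinearGroup.val_det_apply, glMap_coe]
  exact (σ.map_det _).symm

variable (F) in
/-- `[[1, 1], [0, 1]]`. -/
def um : SLn 2 F := ⟨!![1, 1; 0, 1], by simp [Matrix.det_fin_two]⟩

variable (F) in
/-- `[[0, 1], [-1, 0]]`. -/
def wm : SLn 2 F := ⟨!![0, 1; -1, 0], by simp [Matrix.det_fin_two]⟩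

theorem um_coe : smat (um F) = !![(1 : F), 1; 0, 1] := rfl
theorem wm_coe : smat (wm F) = !![(0 : F), 1; -1, 0] := rfl

theorem um_pow_coe (n : ℕ) : smat (um F ^ n) = !![(1 : F), n; 0, 1] := by
  induction n with
  | zero => ext i j; fin_cases i <;> fin_cases j <;> simp
  | succ n ih =>
    rw [pow_succ]
    show smat (um F ^ n) * smat (um F) = _
    rw [ih, um_coe]
    ext i j
    fin_cases i <;> fin_cases j <;> simp [Matrix.mul_apply, Fin.sum_univ_two, add_comm]

theorem wm_not_normalize (n : ℕ) :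
    toP (wm F) * toP (um F) ≠ toP (um F) ^ n * toP (wm F) := by
  intro h
  rw [← map_pow, ← map_mul, ← map_mul] at h
  obtain ⟨c, -, hc⟩ := toP_eq_iff.1 h.symm
  have h' : smat (wm F) * smat (um F) = c • (smat (um F ^ n) * smat (wm F)) := hc
  rw [wm_coe, um_coe, um_pow_coe] at h'
  have := congrFun (congrFun h' 1) 1
  simp [Matrix.mul_apply, Fin.sum_univ_two] at this

theorem toP_wm_order (hodd : Odd (Fintype.card F)) : orderOf (toP (wm F)) = 2 := by
  haveI : Fact (Nat.Prime 2) := ⟨Nat.prime_two⟩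
  refine orderOf_eq_prime ?_ ?_
  · rw [pow_two, ← map_mul, ← map_one (toP (n := 2) (F := F))]
    refine (toP_eq_iff).2 ⟨-1, by ring, ?_⟩
    show smat (1 : SLn 2 F) = (-1 : F) • (smat (wm F) * smat (wm F))
    rw [wm_coe]
    ext i j
    fin_cases i <;> fin_cases j <;> simp [Matrix.mul_apply, Fin.sum_univ_two]
  · intro h
    exact wm_not_normalize (F := F) 1 (by rw [h, one_mul, mul_one, pow_one])

theorem toP_um_ne_one : toP (um F) ≠ 1 := fun h =>
  wm_not_normalize (F := F) 1 (by rw [h, mul_one, pow_one, one_mul])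

theorem toP_um_odd (hodd : Odd (Fintype.card F)) : Odd (orderOf (toP (um F))) := by
  refine hodd.of_dvd_nat (orderOf_dvd_of_pow_eq_one ?_)
  rw [← map_pow, ← map_one (toP (n := 2) (F := F))]
  congr 1
  refine Subtype.ext ?_
  show smat (um F ^ Fintype.card F) = smat 1
  rw [um_pow_coe, Nat.cast_card_eq_zero]
  ext i j
  fin_cases i <;> fin_cases j <;> simp

section main

variable {G : Type u} [Group G] [Finite G] (hP : Hyp G) {Φ : G →* MulAut (PSLn 2 F)}
  (hΦ : Function.Injective Φ) (hInn : ∀ s : SLn 2 F, linAut (Matrix.SpecialLinearGroup.toGL s) ∈ Φ.range)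
  (hodd : Odd (Fintype.card F))

include hInn in
theorem shift {g h : GL (Fin 2) F} {σ : F ≃+* F} (hg : semiAut g σ ∈ Φ.range) (c : Fˣ)
    (hc : Matrix.GeneralLinearGroup.det h = Matrix.GeneralLinearGroup.det g * (c * c)) :
    semiAut h σ ∈ Φ.range := by
  set d := h * g⁻¹ * Matrix.GeneralLinearGroup.scalar (Fin 2) c⁻¹ with hd
  have hdet : Matrix.GeneralLinearGroup.det d = 1 := by
    have hsc : Matrix.GeneralLinearGroup.det (Matrix.GeneralLinearGroup.scalar (Fin 2) c⁻¹) =
        c⁻¹ * c⁻¹ := by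
      apply Units.ext
      rw [Matrix.GeneralLinearGroup.val_det_apply, Matrix.GeneralLinearGroup.coe_scalar]
      simp [pow_two]
    rw [hd, map_mul, map_mul, map_inv, hc, hsc, mul_inv_cancel_comm, ← mul_inv_rev, mul_inv_cancel]
  have h1 : linAut (h * g⁻¹) ∈ Φ.range := by
    have h2 := hInn ⟨(d : Matrix (Fin 2) (Fin 2) F), by
      rw [← Matrix.GeneralLinearGroup.val_det_apply, hdet, Units.val_one]⟩
    rwa [show Matrix.SpecialLinearGroup.toGL (⟨(d : Matrix (Fin 2) (Fin 2) F), by
      rw [← Matrix.GeneralLinearGroup.val_det_apply, hdet, Units.val_one]⟩ : SLn 2 F) = d from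
      Units.ext rfl, hd, map_mul, linAut_scalar, mul_one] at h2
  have h3 := mul_mem h1 hg
  rwa [semiAut_eq g, ← mul_assoc, ← map_mul, inv_mul_cancel_right, ← semiAut_eq] at h3

include hP hΦ hodd in
/-- No pure field automorphism of prime order. -/
theorem no_pure (hW : linAut (Matrix.SpecialLinearGroup.toGL (wm F)) ∈ Φ.range)
    (hU : linAut (Matrix.SpecialLinearGroup.toGL (um F)) ∈ Φ.range)
    {τ : RingAut F} {r : ℕ} (hr : r.Prime) (hτ : orderOf τ = r) : fldAut τ ∉ Φ.range := by
  rintro ⟨x, hx⟩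
  obtain ⟨w, hw⟩ := hW
  obtain ⟨v, hv⟩ := hU
  have hxo : orderOf x = r := by
    rw [← orderOf_injective Φ hΦ, hx, orderOf_injective _ fldAut_injective, hτ]
  have hconjinj : Function.Injective (MulAut.conj : PSLn 2 F →* MulAut (PSLn 2 F)) := by
    refine (injective_iff_map_eq_one _).2 fun y hy => ?_
    obtain ⟨s, rfl⟩ := toP_surjective y
    rw [← semiAut_eq_conj] at hy
    obtain ⟨-, c, hc⟩ := eq_of_semiAut_eq_one le_rfl hy
    have hm : smat s = Matrix.scalar (Fin 2) (c : F) := by
      have := congrArg (fun M : GL (Fin 2) F => (M : Matrix (Fin 2) (Fin 2) F)) hc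
      simpa [Matrix.GeneralLinearGroup.coe_scalar, Matrix.SpecialLinearGroup.toGL] using this
    exact (QuotientGroup.eq_one_iff s).2 (Matrix.SpecialLinearGroup.mem_center_iff.2 ⟨c, by
      have hd : (smat s).det = 1 := s.det_coe
      rw [hm] at hd
      simpa using hd, hm.symm⟩)
  have horder : ∀ (z : G) (s : SLn 2 F), Φ z = linAut (Matrix.SpecialLinearGroup.toGL s) →
      orderOf z = orderOf (toP s) := fun z s h => by
    rw [← orderOf_injective Φ hΦ, h, linAut_toGL, orderOf_injective _ hconjinj]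
  have hwo : orderOf w = 2 := (horder w _ hw).trans (toP_wm_order hodd)
  have hvo : Odd (orderOf v) := horder v _ hv ▸ toP_um_odd hodd
  have hv1 : v ≠ 1 := fun e => toP_um_ne_one (F := F)
    (orderOf_eq_one_iff.1 (by rw [← horder v _ hv, e, orderOf_one]))
  have hfix : ∀ s : SLn 2 F, (smat s).map τ = smat s → ∀ z : G,
      Φ z = linAut (Matrix.SpecialLinearGroup.toGL s) → Commute x z := by
    intro s hs z hz
    apply hΦ
    rw [map_mul, map_mul, hx, hz, fld_mul_lin]
    congr 2
    exact Units.ext hs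
  have hxw : Commute x w := hfix (wm F) (by
    rw [wm_coe]; ext i j; fin_cases i <;> fin_cases j <;> simp) w hw
  have hxv : Commute x v := hfix (um F) (by
    rw [um_coe]; ext i j; fin_cases i <;> fin_cases j <;> simp) v hv
  have hnn : ∀ n : ℕ, w * v ≠ v ^ n * w := fun n h => by
    refine wm_not_normalize (F := F) n (hconjinj ?_)
    rw [map_mul, map_mul, map_pow, ← linAut_toGL, ← linAut_toGL, ← hw, ← hv, ← map_pow, ← map_mul,
      ← map_mul, h]
  rcases hr.eq_two_or_odd' with rfl | hro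
  · have hmem : w ∈ normalizer (zpowers v : Set G) := by
      rw [hP.norm_odd hxo hvo hv1 hxv.symm]; exact mem_C.2 hxw.symm
    obtain ⟨n, hn⟩ := Submonoid.mem_powers_iff _ _ |>.1
      (mem_powers_iff_mem_zpowers.2 (mem_normalizer_zpowers.1 hmem))
    exact hnn n (by rw [hn, inv_mul_cancel_right])
  · have hmem : v ∈ normalizer (zpowers x : Set G) := by
      rw [mem_normalizer_zpowers, mul_inv_eq_iff_eq_mul.2 hxv.symm.eq]
      exact mem_zpowers x
    rw [hP.norm_odd hwo (hxo ▸ hro) (fun e => by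
      rw [e, orderOf_one] at hxo; exact hr.ne_one hxo.symm) hxw] at hmem
    exact hnn 1 (by rw [pow_one, (mem_C.1 hmem).eq])

include hP hΦ hInn hodd in
/-- Every element is inner-diagonal. -/
theorem range_le : Φ.range ≤ (linAut (F := F)).range := by
  classical
  intro φ₀ hφ₀
  obtain ⟨g₀, σ₀, e₀⟩ := exists_decomp le_rfl φ₀
  have e₀' : φ₀ = semiAut g₀ σ₀ := e₀.resolve_right fun h => absurd h.1 (by norm_num)
  by_cases hσ₀ : σ₀ = RingEquiv.refl F
  · exact ⟨g₀, by rw [e₀', hσ₀]; rfl⟩
  exfalso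
  -- an element whose field part has prime order
  haveI : Finite (RingAut F) := Finite.of_injective _ (fldAut_injective (F := F))
  have ho : orderOf (σ₀ : RingAut F) ≠ 1 := fun h => hσ₀ (orderOf_eq_one_iff.1 h)
  set r := (orderOf (σ₀ : RingAut F)).minFac with hrdef
  have hr : r.Prime := Nat.minFac_prime ho
  set k := orderOf (σ₀ : RingAut F) / r with hk
  set σ : RingAut F := (σ₀ : RingAut F) ^ k with hσdef
  have hσo : orderOf σ = r := by
    have hmul : r * k = orderOf (σ₀ : RingAut F) := Nat.mul_div_cancel' (Nat.minFac_dvd _)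
    have hk0 : k ≠ 0 := fun h => by
      rw [h, mul_zero] at hmul
      exact (orderOf_pos (σ₀ : RingAut F)).ne' hmul.symm
    rw [hσdef, orderOf_pow_of_dvd hk0 ⟨r, by rw [mul_comm]; exact hmul.symm⟩, ← hmul,
      Nat.mul_div_cancel _ (Nat.pos_of_ne_zero hk0)]
  obtain ⟨g, σ', e₁⟩ := exists_decomp le_rfl (φ₀ ^ k)
  have e₁' : φ₀ ^ k = semiAut g σ' := e₁.resolve_right fun h => absurd h.1 (by norm_num)
  have hσ' : σ' = σ := by
    have := congrArg (fieldHom (F := F) (n := 2) le_rfl) e₁'
    rw [map_pow, fieldHom_semiAut, e₀', fieldHom_semiAut] at this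
    exact this.symm
  subst hσ'
  have hg : semiAut g σ ∈ Φ.range := e₁' ▸ pow_mem hφ₀ k
  have hW := hInn (wm F)
  have hU := hInn (um F)
  set ν := Matrix.GeneralLinearGroup.det g with hν
  have hinvsq : ∀ a : Fˣ, ¬ IsSquare (a : F) → ¬ IsSquare ((a⁻¹ : Fˣ) : F) := fun a ha h => by
    obtain ⟨c, hc⟩ := exists_sq_iff.1 h
    exact ha (exists_sq_iff.2 ⟨c⁻¹, by rw [← mul_inv_rev, ← hc, inv_inv]⟩)
  by_cases hsq : IsSquare (ν : F)
  · obtain ⟨c, hc⟩ := exists_sq_iff.1 hsq
    have h1 := shift hInn hg c⁻¹ (h := 1) (by rw [map_one, ← hν, hc, ← mul_inv_rev, mul_inv_cancel])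
    exact no_pure hP hΦ hodd hW hU hr hσo h1
  rcases hr.eq_two_or_odd' with hr2 | hro
  swap
  · -- the square has square determinant
    have h2 := mul_mem hg hg
    rw [semiAut_mul] at h2
    have hnu : ¬ IsSquare ((Units.map (σ : F →* F) ν : Fˣ) : F) := fun h => hsq (by
      have := h.map σ.symm
      simpa using this)
    obtain ⟨c, hc⟩ := exists_sq_of_not_sq hodd hsq hnu
    have h1 := shift hInn h2 c⁻¹ (h := 1) (by rw [map_one, map_mul, det_glMap, ← hν, hc, ← mul_inv_rev, mul_inv_cancel])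
    refine no_pure hP hΦ hodd hW hU hr (τ := σ * σ) ?_ h1
    have hcop : Nat.Coprime 2 (orderOf σ) := Nat.coprime_two_left.2 (hσo ▸ hro)
    rw [← pow_two]
    exact hcop.symm.orderOf_pow.trans hσo
  -- an involutory field automorphism twisted by a non-square
  have hσσ : ∀ x, σ (σ x) = x := fun x => by
    have h : σ * σ = (1 : RingAut F) := by
      rw [← pow_two, ← hr2, ← hσo, pow_orderOf_eq_one]
    exact RingEquiv.congr_fun h x
  have hσ1 : σ ≠ RingEquiv.refl F := fun e => by
    rw [show σ = (1 : RingAut F) from e, orderOf_one] at hσo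
    exact hr.ne_one hσo.symm
  obtain ⟨l, hl⟩ := IsCyclic.exists_generator (α := Fˣ)
  have hlsq : ¬ IsSquare (l : F) := by
    intro h
    obtain ⟨c, hc⟩ := exists_sq_iff.1 h
    obtain ⟨i, hi⟩ := mem_zpowers_iff.1 (hl ν)
    refine hsq (exists_sq_iff.2 ⟨c ^ i, ?_⟩)
    rw [← hi, hc, mul_zpow]
  have hgl : semiAut (dgl F l) σ ∈ Φ.range := by
    obtain ⟨c, hc⟩ := exists_sq_of_not_sq hodd hlsq (hinvsq ν hsq)
    exact shift hInn hg c (by rw [det_dgl, ← hν, ← hc]; rw [mul_comm l, mul_inv_cancel_left])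
  set μ : Fˣ := l * Units.map (σ : F →* F) l with hμ
  have hμev : Even (orderOf μ) := by
    by_contra hev
    rw [Nat.not_even_iff_odd] at hev
    obtain ⟨j, hj⟩ := hev
    refine mul_image_ne_one hodd σ hσσ hσ1 (ν := ((l ^ orderOf μ : Fˣ) : F)) ?_ ?_
    · intro h
      apply hlsq
      obtain ⟨c, hc⟩ := exists_sq_iff.1 h
      rw [hj, pow_succ, pow_mul', pow_two, ← eq_inv_mul_iff_mul_eq] at hc
      exact exists_sq_iff.2 ⟨(l ^ j)⁻¹ * c, hc.trans (by rw [mul_mul_mul_comm, ← mul_inv_rev])⟩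
    · have := congrArg Units.val (pow_orderOf_eq_one μ)
      rw [hμ, mul_pow, ← map_pow] at this
      simpa using this
  set o := orderOf μ / 2 with hodef
  have hμo : μ ^ o = -1 := by
    have h2 := orderOf_half (orderOf_pos μ).ne' hμev
    have hs := congrArg Units.val (H65.mul_self_eq_one h2)
    rw [Units.val_mul, Units.val_one] at hs
    rcases mul_self_eq_one_iff.1 hs with h | h
    · exact absurd (Units.ext h) (H65.ne_one_of_orderOf h2)
    · exact Units.ext (by simpa using h)
  set D : Fˣ →* MulAut (PSLn 2 F) := (linAut (F := F)).comp (dgl F) with hD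
  have hDinj : Function.Injective D := linAut_dgl_injective
  have hgform : semiAut (dgl F l) σ = D l * fldAut σ := semiAut_eq _ _
  have hfD : ∀ a : Fˣ, fldAut σ * D a = D (Units.map (σ : F →* F) a) * fldAut σ := fun a => by
    rw [hD]
    show fldAut σ * linAut (dgl F a) = linAut (dgl F _) * fldAut σ
    rw [fld_mul_lin, glMap_dgl]
  have hff : fldAut σ * fldAut σ = (1 : MulAut (PSLn 2 F)) := by
    rw [← map_mul, show σ * σ = (1 : RingAut F) from RingEquiv.ext hσσ, map_one]
  have hg2 : D l * fldAut σ * (D l * fldAut σ) = D μ := by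
    rw [hμ, map_mul, mul_assoc, ← mul_assoc (fldAut σ), hfD, mul_assoc, hff, mul_one]
  obtain ⟨x, hx⟩ := hgl
  rw [hgform] at hx
  obtain ⟨w, hw⟩ := hW
  have hxx : Φ (x * x) = D μ := by rw [map_mul, hx, hg2]
  have ht : Φ ((x * x) ^ o) = D (-1) := by rw [map_pow, hxx, ← map_pow, hμo]
  have hm1 : (-1 : Fˣ) ≠ 1 := fun e => by
    have := congrArg Units.val e
    rw [Units.val_neg, Units.val_one] at this
    exact (Ring.two_ne_zero (two_ne_zero_of_odd hodd)) (by linear_combination -this)
  have hto : orderOf ((x * x) ^ o) = 2 := by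
    haveI : Fact (Nat.Prime 2) := ⟨Nat.prime_two⟩
    rw [← orderOf_injective Φ hΦ, ht, orderOf_injective D hDinj]
    exact orderOf_eq_prime (by simp) hm1
  set W : GL (Fin 2) F := Matrix.SpecialLinearGroup.toGL (wm F) with hWdef
  have hWc : (W : Matrix (Fin 2) (Fin 2) F) = !![0, 1; -1, 0] := rfl
  have hWswap : ∀ a : Fˣ, W * dgl F a =
      dgl F a⁻¹ * W * Matrix.GeneralLinearGroup.scalar (Fin 2) a := by
    intro a
    apply Units.ext
    rw [Units.val_mul, Units.val_mul, Units.val_mul, hWc, dgl_coe, dgl_coe,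
      Matrix.GeneralLinearGroup.coe_scalar]
    ext i j
    fin_cases i <;> fin_cases j <;> simp [Matrix.mul_apply, Fin.sum_univ_two]
  have hwD : ∀ a : Fˣ, linAut W * D a = D a⁻¹ * linAut W := fun a => by
    show linAut W * linAut (dgl F a) = linAut (dgl F a⁻¹) * linAut W
    rw [← map_mul, hWswap, map_mul, map_mul, linAut_scalar, mul_one]
  have hwf : linAut W * fldAut σ = fldAut σ * linAut W := by
    rw [fld_mul_lin]
    congr 2
    apply Units.ext
    rw [glMap_coe, hWc]
    ext i j
    fin_cases i <;> fin_cases j <;> simp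
  have hwt : Commute w ((x * x) ^ o) := by
    apply hΦ
    rw [map_mul, map_mul, ht, hw, hwD, inv_neg, inv_one]
  have hmem : w * x * w⁻¹ ∈ zpowers x := by
    rw [← mem_normalizer_zpowers, hP.norm_self hto ?_]
    · exact mem_C.2 hwt
    · exact pow_mem (mul_mem (mem_zpowers x) (mem_zpowers x)) o
  obtain ⟨n, hn⟩ := Submonoid.mem_powers_iff _ _ |>.1 (mem_powers_iff_mem_zpowers.2 hmem)
  have hwx : Φ (w * x * w⁻¹) = D l⁻¹ * fldAut σ := by
    rw [map_mul, map_mul, map_inv, hx, hw, ← mul_assoc, hwD, mul_assoc (D l⁻¹), hwf,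
      mul_assoc, mul_assoc, mul_inv_cancel, mul_one]
  rcases Nat.even_or_odd n with ⟨i, hi⟩ | ⟨i, hi⟩
  · have h := hwx
    rw [← hn, hi, ← two_mul, pow_mul, pow_two, map_pow, hxx, ← map_pow] at h
    have h' := congrArg (fieldHom (F := F) (n := 2) le_rfl) h
    rw [map_mul] at h'
    have hD1 : ∀ a, fieldHom (F := F) (n := 2) le_rfl (D a) = 1 := fun a =>
      fieldHom_semiAut le_rfl _ _
    rw [hD1, hD1, one_mul, fldAut_apply, fieldHom_semiAut] at h'
    exact hσ1 h'.symm
  · have h := hwx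
    rw [← hn, hi, pow_succ, pow_mul, pow_two, map_mul, map_pow, hxx, hx, ← mul_assoc,
      ← map_pow, ← map_mul] at h
    have hll : μ ^ i * l = l⁻¹ := hDinj (mul_right_cancel h)
    have hμfix : σ (μ : F) = μ := by
      rw [hμ, Units.val_mul, map_mul]
      show σ (l : F) * σ (σ (l : F)) = (l : F) * σ (l : F)
      rw [hσσ, mul_comm]
    have hl2 : σ ((l : F) * l) = (l : F) * l := by
      have h5 : (μ ^ i)⁻¹ = l * l := by
        rw [show μ ^ i = l⁻¹ * l⁻¹ from eq_mul_inv_of_mul_eq hll, mul_inv_rev, inv_inv]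
      rw [← Units.val_mul, ← h5, Units.val_inv_eq_inv_val, map_inv₀, Units.val_pow_eq_pow_val,
        map_pow, hμfix]
    have hpm : ∀ x : F, σ x = x ∨ σ x = -x := by
      intro y
      rcases eq_or_ne y 0 with rfl | hy
      · simp
      obtain ⟨m, hm⟩ := mem_zpowers_iff.1 (hl (Units.mk0 y hy))
      refine mul_self_eq_mul_self_iff.1 ?_
      rw [← map_mul]
      have : y = ((l ^ m : Fˣ) : F) := by rw [hm]; rfl
      rw [this, ← Units.val_mul, ← mul_zpow, Units.val_zpow_eq_zpow_val, Units.val_mul,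
        map_zpow₀, hl2]
    have hlfix : σ (l : F) = l := by
      rcases hpm l with h' | h'
      · exact h'
      exfalso
      have h2 : (2 : F) ≠ 0 := Ring.two_ne_zero (two_ne_zero_of_odd hodd)
      rcases hpm (1 + l) with h'' | h'' <;> rw [map_add, map_one, h'] at h''
      · exact mul_ne_zero h2 l.ne_zero (by linear_combination -h'')
      · exact h2 (by linear_combination h'')
    refine hσ1 (RingEquiv.ext fun y => ?_)
    show σ y = y
    rcases eq_or_ne y 0 with rfl | hy
    · simp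
    obtain ⟨m, hm⟩ := mem_zpowers_iff.1 (hl (Units.mk0 y hy))
    have : y = ((l ^ m : Fˣ) : F) := by rw [hm]; rfl
    rw [this, Units.val_zpow_eq_zpow_val, map_zpow₀, hlfix]

end main

/-- Only `PSL(2, q)` and `PGL(2, q)` remain. -/
theorem psl_or_pgl {G : Type u} [Group G] [Finite G] (hP : Hyp G) (T : Subgroup G) [T.Normal]
    (hC : centralizer (T : Set G) = ⊥) (e : ↥T ≃* PSLn 2 F) (hodd : Odd (Fintype.card F)) :
    Nonempty (G ≃* Matrix.ProjectiveSpecialLinearGroup (Fin 2) F) ∨
      Nonempty (G ≃* Matrix.ProjGenLinGroup (Fin 2) F) := by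
  classical
  let Φ : G →* MulAut (PSLn 2 F) := (MulAut.congr e).toMonoidHom.comp MulAut.conjNormal
  have hΦa : ∀ (g : G) (y : PSLn 2 F), Φ g y = e (MulAut.conjNormal g (e.symm y)) := fun _ _ => rfl
  have hΦ : Function.Injective Φ := by
    refine (injective_iff_map_eq_one _).2 fun g hg => ?_
    have : g ∈ centralizer (T : Set G) := mem_centralizer_iff.2 fun y hy => by
      have h := hΦa g (e ⟨y, hy⟩)
      rw [hg, e.symm_apply_apply, MulAut.one_apply] at h
      have h' := congrArg Subtype.val (e.injective h)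
      rw [MulAut.conjNormal_apply] at h'
      exact eq_mul_inv_iff_mul_eq.1 h'
    rwa [hC, mem_bot] at this
  have hT : ∀ y : PSLn 2 F, Φ ((e.symm y : ↥T) : G) = MulAut.conj y := fun y => by
    ext z
    rw [hΦa, MulAut.conj_apply]
    conv_rhs => rw [← e.apply_symm_apply y, ← e.apply_symm_apply z, ← map_inv, ← map_mul, ← map_mul]
    congr 1
  have hInn : ∀ s : SLn 2 F, linAut (Matrix.SpecialLinearGroup.toGL s) ∈ Φ.range :=
    fun s => ⟨_, (hT _).trans (linAut_toGL s).symm⟩
  have hle := range_le hP hΦ hInn hodd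
  by_cases hall : ∀ g : GL (Fin 2) F, linAut g ∈ Φ.range →
      IsSquare ((Matrix.GeneralLinearGroup.det g : Fˣ) : F)
  · left
    have htop : T = ⊤ := by
      refine (eq_top_iff' T).2 fun x => ?_
      obtain ⟨g, hg⟩ := hle ⟨x, rfl⟩
      obtain ⟨c, hc⟩ := exists_sq_iff.1 (hall g ⟨x, hg.symm⟩)
      set d := g * Matrix.GeneralLinearGroup.scalar (Fin 2) c⁻¹ with hd
      have hdet : Matrix.GeneralLinearGroup.det d = 1 := by
        have hsc : Matrix.GeneralLinearGroup.det (Matrix.GeneralLinearGroup.scalar (Fin 2) c⁻¹) =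
            c⁻¹ * c⁻¹ := by
          apply Units.ext
          rw [Matrix.GeneralLinearGroup.val_det_apply, Matrix.GeneralLinearGroup.coe_scalar]
          simp [pow_two]
        rw [hd, map_mul, hc, hsc, ← mul_inv_rev, mul_inv_cancel]
      let s : SLn 2 F := ⟨(d : Matrix (Fin 2) (Fin 2) F), by
        rw [← Matrix.GeneralLinearGroup.val_det_apply, hdet, Units.val_one]⟩
      have he : Φ x = Φ ((e.symm (toP s) : ↥T) : G) := by
        rw [hT, ← linAut_toGL, show Matrix.SpecialLinearGroup.toGL s = d from Units.ext rfl, hd,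
          map_mul, linAut_scalar, mul_one, hg]
      rw [hΦ he]
      exact SetLike.coe_mem _
    exact ⟨(Subgroup.topEquiv.symm.trans (MulEquiv.subgroupCongr htop.symm)).trans e⟩
  · right
    push Not at hall
    obtain ⟨g, hg, hgsq⟩ := hall
    have hfull : (linAut (F := F)).range ≤ Φ.range := by
      rintro _ ⟨h, rfl⟩
      by_cases hs : IsSquare ((Matrix.GeneralLinearGroup.det h : Fˣ) : F)
      · obtain ⟨c, hc⟩ := exists_sq_iff.1 hs
        exact shift hInn (g := 1) (σ := RingEquiv.refl F) (semiAut_one (F := F) (n := 2) ▸ one_mem _)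
          c (by rw [map_one, one_mul, hc])
      · have hinv : ¬ IsSquare (((Matrix.GeneralLinearGroup.det g)⁻¹ : Fˣ) : F) := fun h' => by
          obtain ⟨c, hc⟩ := exists_sq_iff.1 h'
          exact hgsq (exists_sq_iff.2 ⟨c⁻¹, by rw [← mul_inv_rev, ← hc, inv_inv]⟩)
        obtain ⟨c, hc⟩ := exists_sq_of_not_sq hodd hs hinv
        exact shift hInn (σ := RingEquiv.refl F) hg c (by rw [← hc, mul_comm (Matrix.GeneralLinearGroup.det h), mul_inv_cancel_left])
    exact ⟨(MonoidHom.ofInjective hΦ).trans <| (MulEquiv.subgroupCongr (le_antisymm hle hfull)).trans <|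
      (QuotientGroup.quotientKerEquivRange _).symm.trans
        (QuotientGroup.quotientMulEquivOfEq (pglToAut_ker le_rfl))⟩

end Cfsg.Agent.H5.EvenCyclic
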