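import Cfsg.Agent.H5.EvenCyclic.LemmaA
import Cfsg.Agent.S0205
import Cfsg.Agent.S0215

/-!
# 2-elements of the centraliser of an involution

If the centraliser of `t` is not a 2-group, its 2-elements either centralise its odd part or are
involutions inverting it; those centralising form cyclic subgroups.
-/

set_option autoImplicit false
set_option linter.unusedSectionVars false
set_option linter.style.haveILetI false

namespace Cfsg.Agent.H5.EvenCyclic

open Subgroup

universe u

variable {G : Type u} [Group G] [Finite G]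

/-- `y` centralises the odd part of `C t`. -/
def Cn (t y : G) : Prop := ∀ x : G, Commute x t → Odd (orderOf x) → Commute y x

/-- `y` inverts the odd part of `C t`. -/
def Inv' (t y : G) : Prop := ∀ x : G, Commute x t → Odd (orderOf x) → y * x * y⁻¹ = x⁻¹

/-- Standing data: an involution whose centraliser is not a 2-group, in the mixed case. -/
structure Odd2 (G : Type u) [Group G] (t : G) : Prop where
  hP : Hyp G
  hss : Nss G
  hmix : Mix G
  ht : orderOf t = 2
  hn : ¬ Two t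

theorem mem_pow_two {R : Subgroup G} (hR : IsPGroup 2 ↥R) {y : G} (hy : y ∈ R) :
    ∃ k : ℕ, y ^ (2 ^ k) = 1 :=
  (hR ⟨y, hy⟩).imp fun _ h => congrArg Subtype.val h

theorem order_four_cases {z w : G} (hz : orderOf z = 4) (hw : orderOf w = 4) (h : w ∈ zpowers z) :
    w = z ∨ w = z⁻¹ := by
  obtain ⟨n, hn⟩ := Submonoid.mem_powers_iff _ _ |>.1 (mem_powers_iff_mem_zpowers.2 h)
  rw [← pow_mod_orderOf, hz] at hn
  have h4 : z ^ 4 = 1 := hz ▸ pow_orderOf_eq_one z
  have : n % 4 < 4 := Nat.mod_lt _ (by norm_num)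
  interval_cases hm : n % 4
  · rw [pow_zero] at hn; rw [← hn, orderOf_one] at hw; omega
  · exact Or.inl (by rw [← hn, pow_one])
  · have := orderOf_dvd_of_pow_eq_one (x := w) (n := 2) (by rw [← hn, ← pow_mul]; exact h4)
    rw [hw] at this
    omega
  · exact Or.inr (by rw [← hn, eq_inv_iff_mul_eq_one, ← pow_succ]; exact h4)

theorem orderOf_eq_four {z u : G} (hu : orderOf u = 2) (h : z * z = u) : orderOf z = 4 := by
  haveI : Fact (Nat.Prime 2) := ⟨Nat.prime_two⟩
  have h4 : orderOf z = 2 ^ (1 + 1) := by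
    refine orderOf_eq_prime_pow ?_ ?_
    · rw [pow_one, pow_two, h]; exact H65.ne_one_of_orderOf hu
    · rw [show (2 : ℕ) ^ (1 + 1) = 2 * 2 from rfl, pow_mul, pow_two z, h, pow_two, H65.mul_self_eq_one hu]
  exact h4

namespace Odd2

variable {t : G} (H : Odd2 G t)

include H

/-- An involution other than `t` in `C t` inverts the odd part. -/
theorem inv_of_ne {u : G} (hu : orderOf u = 2) (hut : Commute u t) (hne : u ≠ t) : Inv' t u :=
  fun _ hx hxo => H.hP.inverts H.ht hu hut
    (fun e => hne (eq_of_C_eq H.hP H.hss H.hmix H.ht H.hn hu e)) hx hxo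

theorem not_cn_inv {y : G} (h1 : Cn t y) (h2 : Inv' t y) : False := by
  obtain ⟨x, hx, hxo, hx1⟩ := not_two_iff.1 H.hn
  have := h2 x hx hxo
  rw [mul_inv_eq_iff_eq_mul.2 (h1 x hx hxo).eq] at this
  refine hx1 (odd_pow_two hxo (k := 1) ?_)
  rw [pow_one, pow_two]
  nth_rewrite 2 [this]
  exact mul_inv_cancel x

theorem cn_invol {u : G} (hu : orderOf u = 2) (hut : Commute u t) (h : Cn t u) : u = t := by
  by_contra hne
  exact H.not_cn_inv h (H.inv_of_ne hu hut hne)

theorem cn_of_t_mem {y : G} {k : ℕ} (hk : y ^ (2 ^ k) = 1) (hty : t ∈ zpowers y) : Cn t y := by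
  intro x hx hxo
  have hn := H.hP.norm_self H.ht hty
  have hyt : Commute y t := by
    obtain ⟨i, rfl⟩ := mem_zpowers_iff.1 hty
    exact Commute.self_zpow y i
  have h1 : x * y * x⁻¹ * y⁻¹ ∈ zpowers y :=
    mul_mem (mem_normalizer_zpowers.1 (hn.symm ▸ mem_C.2 hx)) (inv_mem (mem_zpowers y))
  have h2 : x * y * x⁻¹ * y⁻¹ ∈ zpowers x := by
    have := mul_mem (mem_zpowers x) (H.hP.conj_mem H.ht (hxo) hx (g := y) hyt |> fun h =>
      inv_mem h)
    simpa [mul_assoc] using this
  obtain ⟨i, hi⟩ := mem_zpowers_iff.1 h1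
  have : x * y * x⁻¹ * y⁻¹ = 1 := by
    refine odd_pow_two (k := k) (hxo.of_dvd_nat (orderOf_dvd_of_mem_zpowers h2)) ?_
    rw [← hi, ← zpow_natCast, ← zpow_mul, mul_comm, zpow_mul, zpow_natCast, hk, one_zpow]
  exact (mul_inv_eq_iff_eq_mul.1 (mul_inv_eq_one.1 this)).symm

theorem cn_one : Cn t (1 : G) := fun x _ _ => Commute.one_left x

theorem cn_t : Cn t t := fun _ hx _ => hx.symm

theorem cn_mul {a b : G} (ha : Cn t a) (hb : Cn t b) : Cn t (a * b) :=
  fun x hx hxo => (ha x hx hxo).mul_left (hb x hx hxo)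

theorem cn_inv' {a : G} (ha : Cn t a) : Cn t a⁻¹ := fun x hx hxo => (ha x hx hxo).inv_left

theorem cn_conj {a g : G} (ha : Cn t a) (hg : Commute g t) : Cn t (g * a * g⁻¹) := by
  intro x hx hxo
  have h := ha (g⁻¹ * x * g) ((hg.inv_left.mul_left hx).mul_left hg) (by
    have := H65.orderOf_conj' g⁻¹ x
    rw [inv_inv] at this
    rw [this]; exact hxo)
  have := h.map (MulAut.conj g).toMonoidHom
  simpa [mul_assoc] using this

theorem cn_mul_inv_inv {a b : G} (ha : Inv' t a) (hb : Inv' t b) : Cn t (a * b) := by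
  intro x hx hxo
  refine mul_inv_eq_iff_eq_mul.1 ?_
  rw [show a * b * x * (a * b)⁻¹ = a * (b * x * b⁻¹) * a⁻¹ by group, hb x hx hxo, ← conj_inv,
    ha x hx hxo, inv_inv]

theorem cn_commutator {a b : G} (ha : Commute a t) (hb : Commute b t) :
    Cn t (a * b * a⁻¹ * b⁻¹) := by
  intro x hx hxo
  have hA : ∀ g : G, Commute g t → ∃ i : ℤ, ∀ m : ℤ, g * x ^ m * g⁻¹ = x ^ (i * m) := fun g hg => by
    obtain ⟨i, hi⟩ := mem_zpowers_iff.1 (H.hP.conj_mem H.ht hxo hx hg)
    exact ⟨i, fun m => by rw [← conj_zpow, ← hi, ← zpow_mul]⟩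
  obtain ⟨i, hi⟩ := hA a ha
  obtain ⟨j, hj⟩ := hA b hb
  obtain ⟨i', hi'⟩ := hA a⁻¹ ha.inv_left
  obtain ⟨j', hj'⟩ := hA b⁻¹ hb.inv_left
  simp only [inv_inv] at hi' hj'
  have e1 : x = x ^ (i * i') := by
    have h := hi' 1
    rw [zpow_one, mul_one] at h
    rw [← hi, ← h]; group
  have e2 : x = x ^ (j * j') := by
    have h := hj' 1
    rw [zpow_one, mul_one] at h
    rw [← hj, ← h]; group
  refine mul_inv_eq_iff_eq_mul.1 ?_
  have : a * b * a⁻¹ * b⁻¹ * x * (a * b * a⁻¹ * b⁻¹)⁻¹ =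
      a * (b * (a⁻¹ * (b⁻¹ * x * b) * a) * b⁻¹) * a⁻¹ := by group
  rw [this]
  have h := hj' 1
  rw [zpow_one, mul_one] at h
  rw [h, hi', hj, hi, show i * (j * (i' * j')) = (i * i') * (j * j') by ring, zpow_mul, ← e1, ← e2]

theorem t_mul_invol {u : G} (hu : orderOf u = 2) (hut : Commute u t) (hne : u ≠ t) :
    orderOf (t * u) = 2 :=
  H65.orderOf_mul_two H.ht hu hut.symm (Ne.symm hne)

/-- An element of 2-power order whose square centralises the odd part. -/
theorem cases_of_sq {y : G} {k : ℕ} (hk : y ^ (2 ^ k) = 1) (hy : Commute y t)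
    (hsq : Cn t (y * y)) : Cn t y ∨ (orderOf y = 2 ∧ Inv' t y) := by
  by_contra hcon
  push Not at hcon
  obtain ⟨h1, h2⟩ := hcon
  by_cases h : y * y = 1
  · have hy2 : orderOf y = 2 :=
      orderOf_eq_prime (by rw [pow_two]; exact h) fun e => h1 (e ▸ H.cn_one)
    exact h2 hy2 (H.inv_of_ne hy2 hy fun e => h1 (e ▸ H.cn_t))
  · obtain ⟨v, hv, hvm⟩ := exists_invol_zpowers h (k := k)
      (by rw [← pow_two, ← pow_mul, mul_comm, pow_mul, hk, one_pow])
    obtain ⟨i, hi⟩ := mem_zpowers_iff.1 hvm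
    have hvy : v ∈ zpowers y := zpowers_le.2 (mul_mem (mem_zpowers y) (mem_zpowers y)) hvm
    have hvt : v = t := by
      refine H.cn_invol hv (hi ▸ (hy.mul_left hy).zpow_left i) fun x hx hxo => ?_
      rw [← hi]
      exact (hsq x hx hxo).zpow_left i
    exact h1 (H.cn_of_t_mem hk (hvt ▸ hvy))

section OrderFour

variable {z u : G} (hzt : Commute z t) (hu : orderOf u = 2) (hzz : z * z = u) (hne : u ≠ t)

include hzt hu hzz hne

theorem u_inv : Inv' t u :=
  H.inv_of_ne hu (hzz ▸ hzt.mul_left hzt) hne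

/-- In a 2-subgroup of `C t` with such an element only `1` and `t` centralise. -/
theorem cn_trivial {R : Subgroup G} (hR : IsPGroup 2 ↥R) (hRt : R ≤ C t) (hzR : z ∈ R) {d : G}
    (hd : d ∈ R) (hdc : Cn t d) : d = 1 ∨ d = t := by
  have hinv := H.u_inv hzt hu hzz hne
  have huR : u ∈ R := hzz ▸ mul_mem hzR hzR
  have flip : ∀ e ∈ R, Cn t e → u * e * u⁻¹ = e⁻¹ := by
    intro e he hec
    obtain ⟨k, hk⟩ := mem_pow_two hR (mul_mem huR he)
    have hsq : Cn t (u * e * (u * e)) := by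
      have := H.cn_mul (H.cn_conj hec (mem_C.1 (hRt huR))) hec
      rwa [H65.inv_eq_self hu, show u * e * u * e = u * e * (u * e) by simp only [mul_assoc]] at this
    rcases H.cases_of_sq hk (mem_C.1 (hRt (mul_mem huR he))) hsq with h | ⟨h, -⟩
    · have := H.cn_mul h (H.cn_inv' hec)
      rw [mul_inv_cancel_right] at this
      exact (H.not_cn_inv this hinv).elim
    · have h2 := H65.mul_self_eq_one h
      rw [H65.inv_eq_self hu]
      exact eq_inv_of_mul_eq_one_left (by rw [← h2]; simp only [mul_assoc])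
  have comm : ∀ a ∈ R, ∀ b ∈ R, Cn t a → Cn t b → Commute a b := by
    intro a ha b hb hac hbc
    have h := flip _ (mul_mem ha hb) (H.cn_mul hac hbc)
    rw [← conj_mul, flip a ha hac, flip b hb hbc, mul_inv_rev] at h
    exact Commute.inv_inv_iff.1 h
  by_contra hcon
  push Not at hcon
  obtain ⟨hd1, hdt⟩ := hcon
  obtain ⟨k, hk⟩ := mem_pow_two hR hd
  obtain ⟨j, -, hj⟩ := (Nat.dvd_prime_pow Nat.prime_two).1 (orderOf_dvd_of_pow_eq_one hk)
  have hj2 : 2 ≤ j := by
    by_contra hlt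
    have h2 : orderOf d ∣ 2 := hj ▸ (pow_dvd_pow 2 (by omega : j ≤ 1))
    rcases (Nat.dvd_prime Nat.prime_two).1 h2 with h | h
    · exact hd1 (orderOf_eq_one_iff.1 h)
    · exact hdt (H.cn_invol h (mem_C.1 (hRt hd)) hdc)
  set e := d ^ (2 ^ (j - 2)) with he
  have heR : e ∈ R := pow_mem hd _
  have hec : Cn t e := fun x hx hxo => (hdc x hx hxo).pow_left _
  have heo : orderOf e = 4 := by
    rw [he, orderOf_pow_of_dvd (by positivity) (hj ▸ pow_dvd_pow 2 (by omega)), hj,
      Nat.pow_div (by omega) (by norm_num), show j - (j - 2) = 2 by omega]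
  have e2 : ∀ a ∈ R, Cn t a → orderOf a = 4 → a * a = t := by
    intro a ha hac hao
    refine H.cn_invol ?_ (mem_C.1 (hRt (mul_mem ha ha))) (H.cn_mul hac hac)
    rw [← pow_two, orderOf_pow' _ two_ne_zero, hao]
    norm_num
  have he'R : z * e * z⁻¹ ∈ R := mul_mem (mul_mem hzR heR) (inv_mem hzR)
  have he'c := H.cn_conj hec hzt
  have hcomm := comm _ he'R e heR he'c hec
  have hee := e2 e heR hec heo
  have hee' := e2 _ he'R he'c (by rw [H65.orderOf_conj']; exact heo)
  set f := z * e * z⁻¹ * e⁻¹ with hf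
  have hf2 : f * f = 1 := by
    rw [hf, show z * e * z⁻¹ * e⁻¹ * (z * e * z⁻¹ * e⁻¹) =
      z * e * z⁻¹ * (e⁻¹ * (z * e * z⁻¹)) * e⁻¹ by simp only [mul_assoc],
      hcomm.inv_right.symm.eq, ← mul_assoc, hee', mul_assoc, ← mul_inv_rev, hee, mul_inv_cancel]
  have hfc : Cn t f := H.cn_mul he'c (H.cn_inv' hec)
  have hfR : f ∈ R := mul_mem he'R (inv_mem heR)
  have hcase : z * e * z⁻¹ = e ∨ z * e * z⁻¹ = e⁻¹ := by
    by_cases hf1 : f = 1
    · exact Or.inl (mul_inv_eq_one.1 hf1)
    · right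
      have hft : f = t := H.cn_invol (orderOf_eq_prime (by rw [pow_two]; exact hf2) hf1)
        (mem_C.1 (hRt hfR)) hfc
      have : z * e * z⁻¹ = t * e := mul_inv_eq_iff_eq_mul.1 hft
      rw [this, eq_inv_iff_mul_eq_one, mul_assoc, hee, H65.mul_self_eq_one H.ht]
  have huc : u * e * u⁻¹ = e := by
    rw [← hzz, show z * z * e * (z * z)⁻¹ = z * (z * e * z⁻¹) * z⁻¹ by group]
    rcases hcase with h | h
    · rw [h, h]
    · rw [h, ← conj_inv, h, inv_inv]
  have := flip e heR hec
  rw [huc] at this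
  have hee1 : e * e = 1 := mul_eq_one_iff_eq_inv.2 this
  exact H65.ne_one_of_orderOf H.ht (hee.symm.trans hee1)

theorem two_u : Two u := by
  intro x hx hxo
  by_contra hx1
  have hzo := orderOf_eq_four hu hzz
  have htz : (t * z) * (t * z) = u := by
    rw [mul_assoc, ← mul_assoc z, hzt.eq, mul_assoc t z, hzz, ← mul_assoc, H65.mul_self_eq_one H.ht,
      one_mul]
  have key : ∀ y : G, y * y = u → Commute y x := by
    intro y hy
    have hyo := orderOf_eq_four hu hy
    have huy : u ∈ zpowers y := hy ▸ mul_mem (mem_zpowers y) (mem_zpowers y)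
    have hn := H.hP.norm_self hu huy
    have h1 : x * y * x⁻¹ * y⁻¹ ∈ zpowers y :=
      mul_mem (mem_normalizer_zpowers.1 (hn.symm ▸ mem_C.2 hx)) (inv_mem (mem_zpowers y))
    have hyu : Commute y u := hy ▸ (Commute.refl y).mul_right (Commute.refl y)
    have h2 : x * y * x⁻¹ * y⁻¹ ∈ zpowers x := by
      have := mul_mem (mem_zpowers x) (inv_mem (H.hP.conj_mem hu hxo hx (g := y) hyu))
      simpa [mul_assoc] using this
    obtain ⟨i, hi⟩ := mem_zpowers_iff.1 h1
    have : x * y * x⁻¹ * y⁻¹ = 1 := by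
      refine odd_pow_two (k := 2) (hxo.of_dvd_nat (orderOf_dvd_of_mem_zpowers h2)) ?_
      rw [← hi, ← zpow_natCast, ← zpow_mul, mul_comm, zpow_mul, zpow_natCast,
        show (2 : ℕ) ^ 2 = orderOf y by rw [hyo]; rfl, pow_orderOf_eq_one, one_zpow]
    exact (mul_inv_eq_iff_eq_mul.1 (mul_inv_eq_one.1 this)).symm
  have htx : Commute t x := by
    have := (key _ htz).mul_left (key z hzz).inv_left
    rwa [mul_inv_cancel_right] at this
  exact hne (eq_of_C_eq H.hP H.hss H.hmix H.ht H.hn hu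
    (H.hP.C_eq_of_common hu H.ht hxo hx1 hx htx.symm))

theorem no_order_four : False := by
  classical
  haveI : Fact (Nat.Prime 2) := ⟨Nat.prime_two⟩
  have hu2 := isPGroup_of_two (H.two_u hzt hu hzz hne)
  have hzo := orderOf_eq_four hu hzz
  have hzu : Commute z u := hzz ▸ (Commute.refl z).mul_right (Commute.refl z)
  have hut : Commute u t := hzz ▸ hzt.mul_left hzt
  have hinv := H.u_inv hzt hu hzz hne
  have hu1 := H65.mul_self_eq_one hu
  have ht1 := H65.mul_self_eq_one H.ht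
  set P := C u with hPdef
  set R := P ⊓ C t with hR
  have hR2 : IsPGroup 2 ↥R := hu2.to_le inf_le_left
  have hzR : z ∈ R := ⟨mem_C.2 hzu, mem_C.2 hzt⟩
  have htR : t ∈ R := ⟨mem_C.2 hut.symm, self_mem_C t⟩
  have huR : u ∈ R := hzz ▸ mul_mem hzR hzR
  have triv : ∀ d ∈ R, Cn t d → d = 1 ∨ d = t := fun d hd hdc =>
    H.cn_trivial hzt hu hzz hne hR2 inf_le_right hzR hd hdc
  have sq : ∀ y ∈ R, Cn t (y * y) → y = 1 ∨ y = t ∨ y = u ∨ y = t * u := by
    intro y hy hc
    obtain ⟨k, hk⟩ := mem_pow_two hR2 hy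
    rcases H.cases_of_sq hk (mem_C.1 hy.2) hc with h | ⟨-, h⟩
    · rcases triv y hy h with e | e
      · exact Or.inl e
      · exact Or.inr (Or.inl e)
    · have hyu : y = y * u * u := by rw [mul_assoc, hu1, mul_one]
      rcases triv _ (mul_mem hy huR) (H.cn_mul_inv_inv h hinv) with e | e
      · exact Or.inr (Or.inr (Or.inl (by rw [hyu, e, one_mul])))
      · exact Or.inr (Or.inr (Or.inr (by rw [hyu, e])))
  have htz : (t * z) * (t * z) = u := by
    rw [mul_assoc, ← mul_assoc z, hzt.eq, mul_assoc t z, hzz, ← mul_assoc, ht1, one_mul]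
  have htzo := orderOf_eq_four hu htz
  have hswap : ∀ p ∈ P, p * t * p⁻¹ = t ∨ p * t * p⁻¹ = t * u := by
    intro p hp
    have hn : ∀ y : G, y * y = u → orderOf y = 4 → p * y * p⁻¹ = y ∨ p * y * p⁻¹ = y⁻¹ := by
      intro y hy hyo
      refine order_four_cases hyo (by rw [H65.orderOf_conj']; exact hyo) ?_
      refine mem_normalizer_zpowers.1 ?_
      rw [H.hP.norm_self hu (hy ▸ mul_mem (mem_zpowers y) (mem_zpowers y))]
      exact hp
    have hsplit : p * t * p⁻¹ = p * (t * z) * p⁻¹ * (p * z * p⁻¹)⁻¹ := by group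
    have hzi : z⁻¹ * z⁻¹ = u := by rw [← mul_inv_rev, hzz, H65.inv_eq_self hu]
    have htzi : (t * z)⁻¹ = t * z⁻¹ := by
      rw [mul_inv_rev, H65.inv_eq_self H.ht, hzt.inv_left.eq]
    rcases hn _ htz htzo with a | a <;> rcases hn z hzz hzo with b | b <;> rw [hsplit, a, b]
    · left; rw [mul_inv_cancel_right]
    · right; rw [inv_inv, mul_assoc, hzz]
    · right; rw [htzi, mul_assoc, hzi]
    · left; rw [htzi, inv_inv, inv_mul_cancel_right]
  have hsqR : ∀ p ∈ P, p * p ∈ R := by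
    intro p hp
    refine ⟨mul_mem hp hp, mem_C.2 (mul_inv_eq_iff_eq_mul.1 ?_)⟩
    rw [show p * p * t * (p * p)⁻¹ = p * (p * t * p⁻¹) * p⁻¹ by group]
    rcases hswap p hp with h | h
    · rw [h, h]
    · rw [h, ← conj_mul, h, mul_inv_eq_iff_eq_mul.2 (mem_C.1 hp).eq, mul_assoc, hu1, mul_one]
  have four : ∀ w ∈ P, orderOf w = 4 → w * w = u := by
    intro w hw hwo
    have hw4 : w * w * (w * w) = 1 := by
      rw [← pow_two, ← pow_two, ← pow_mul, show 2 * 2 = orderOf w from hwo.symm,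
        pow_orderOf_eq_one]
    have hww1 : w * w ≠ 1 := fun e => by
      have := orderOf_dvd_of_pow_eq_one (x := w) (n := 2) (by rw [pow_two]; exact e)
      rw [hwo] at this; omega
    rcases sq _ (hsqR w hw) (hw4 ▸ H.cn_one) with e | e | e | e
    · exact absurd e hww1
    · exfalso
      have hwt : Commute w t := e ▸ (Commute.refl w).mul_right (Commute.refl w)
      have hwR : w ∈ R := ⟨hw, mem_C.2 hwt⟩
      rcases sq w hwR (e ▸ H.cn_t) with r | r | r | r <;> rw [r] at hwo
      · rw [orderOf_one] at hwo; omega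
      · rw [H.ht] at hwo; omega
      · rw [hu] at hwo; omega
      · rw [H.t_mul_invol hu hut hne] at hwo; omega
    · exact e
    · have hwtu : Commute w (t * u) := e ▸ (Commute.refl w).mul_right (Commute.refl w)
      have hwu : Commute w u := mem_C.1 hw
      have hwt : Commute w t := by
        have := hwtu.mul_right hwu
        rwa [mul_assoc, hu1, mul_one] at this
      have hwR : w ∈ R := ⟨hw, mem_C.2 hwt⟩
      set c := z⁻¹ * w * z * w⁻¹ with hc
      have hcR : c ∈ R := mul_mem (mul_mem (mul_mem (inv_mem hzR) hwR) hzR) (inv_mem hwR)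
      have hcc : Cn t c := by
        have := H.cn_commutator hzt.inv_left hwt
        rwa [inv_inv] at this
      have hvR : w * z⁻¹ ∈ R := mul_mem hwR (inv_mem hzR)
      have hwc : Commute w c := by
        rcases triv c hcR hcc with r | r <;> rw [r]
        · exact Commute.one_right w
        · exact hwt
      have hvv : w * z⁻¹ * (w * z⁻¹) = c * t := by
        have h1 : z⁻¹ * w = c * w * z⁻¹ := by rw [hc]; group
        rw [show w * z⁻¹ * (w * z⁻¹) = w * (z⁻¹ * w) * z⁻¹ by simp only [mul_assoc], h1,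
          show w * (c * w * z⁻¹) * z⁻¹ = w * c * w * (z⁻¹ * z⁻¹) by simp only [mul_assoc],
          ← mul_inv_rev, hzz, H65.inv_eq_self hu, hwc.eq, mul_assoc c, e, mul_assoc c,
          mul_assoc t, hu1, mul_one]
      have hw' : w = w * z⁻¹ * z := (inv_mul_cancel_right w z).symm
      rcases sq _ hvR (hvv ▸ H.cn_mul hcc H.cn_t) with r | r | r | r <;> rw [hw', r]
      · rw [one_mul, hzz]
      · exact htz
      · rw [mul_assoc, ← mul_assoc z, hzu.eq, mul_assoc u z, hzz, ← mul_assoc, hu1, one_mul]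
      · have hzV : Commute z (t * u) := hzt.mul_right hzu
        rw [mul_assoc, ← mul_assoc z, hzV.eq, mul_assoc (t * u) z, hzz, ← mul_assoc,
          H65.mul_self_eq_one (H.t_mul_invol hu hut hne), one_mul]
  have hnorm : ∀ g ∈ normalizer (P : Set G), g ∈ P := by
    intro g hg
    have hw : g * z * g⁻¹ ∈ P := (mem_normalizer_iff.1 hg z).1 hzR.1
    have := four _ hw (by rw [H65.orderOf_conj']; exact hzo)
    rw [conj_mul, hzz] at this
    exact mem_C.2 (mul_inv_eq_iff_eq_mul.1 this)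
  obtain ⟨S, hS⟩ := hu2.exists_le_sylow
  have hSP : (S : Subgroup G) = P := by
    by_contra hne'
    haveI : Group.IsNilpotent ↥(S : Subgroup G) := S.2.isNilpotent
    have hlt : P.subgroupOf (S : Subgroup G) < ⊤ := by
      rw [lt_top_iff_ne_top]
      exact fun h => hne' (le_antisymm (fun g hg => by
        have : (⟨g, hg⟩ : ↥(S : Subgroup G)) ∈ P.subgroupOf (S : Subgroup G) := h ▸ mem_top _
        exact this) hS)
    obtain ⟨g, hg, hgP⟩ := SetLike.exists_of_lt
      (Group.normalizerCondition_of_isNilpotent _ hlt)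
    refine hgP (hnorm g ?_)
    refine mem_normalizer_iff.2 fun y => ⟨fun hy => ?_, fun hy => ?_⟩
    · exact (mem_normalizer_iff.1 hg ⟨y, hS hy⟩).1 hy
    · have hyS : g * y * (g : G)⁻¹ ∈ (S : Subgroup G) := hS hy
      have hy' : y ∈ (S : Subgroup G) := by
        have := mul_mem (mul_mem (inv_mem g.2) hyS) g.2
        simpa [mul_assoc] using this
      exact (mem_normalizer_iff.1 hg ⟨y, hy'⟩).2 hy
  obtain ⟨g, hgS, hgne⟩ : ∃ g : G, g * u * g⁻¹ ∈ S ∧ g * u * g⁻¹ ≠ u := by
    by_contra hcon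
    push Not at hcon
    have huS : u ∈ S := hS (self_mem_C u)
    obtain ⟨N, hNn, hNo, hN⟩ := S0215.result S u hu huS hcon
    have hNb : N = ⊥ := H.hss N hNn (S0205.result hNo)
    have hcen : ∀ g : G, Commute u g := fun g => by
      have := hN g
      rw [hNb, mem_bot] at this
      exact mul_inv_eq_iff_eq_mul.1 (mul_inv_eq_one.1 this)
    have hnor : (zpowers u).Normal := ⟨fun n hn g => by
      obtain ⟨i, rfl⟩ := mem_zpowers_iff.1 hn
      rw [mul_inv_eq_iff_eq_mul.2 ((hcen g).zpow_left i).symm.eq]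
      exact hn⟩
    have := H.hss _ hnor (Group.isSolvable_of_comm zpowers_comm)
    exact H65.ne_one_of_orderOf hu (zpowers_eq_bot.1 this)
  set v := g * u * g⁻¹ with hv
  have hvo : orderOf v = 2 := (H65.orderOf_conj' g u).trans hu
  have hvP : v ∈ P := hSP ▸ hgS
  obtain ⟨q, hqq, hvq⟩ : ∃ q : G, q * q = u ∧ Commute q v := by
    by_cases hvt : v * t * v⁻¹ = t
    · have hvR : v ∈ R := ⟨hvP, mem_C.2 (mul_inv_eq_iff_eq_mul.1 hvt)⟩
      refine ⟨z, hzz, ?_⟩
      rcases sq v hvR (H65.mul_self_eq_one hvo ▸ H.cn_one) with r | r | r | r <;> rw [r]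
      · exact Commute.one_right z
      · exact hzt
      · exact hzu
      · exact hzt.mul_right hzu
    · have hvt' := (hswap v hvP).resolve_left hvt
      have hz' : v * z * v⁻¹ = z ∨ v * z * v⁻¹ = z⁻¹ := by
        refine order_four_cases hzo (by rw [H65.orderOf_conj']; exact hzo) ?_
        refine mem_normalizer_zpowers.1 ?_
        rw [H.hP.norm_self hu (hzz ▸ mul_mem (mem_zpowers z) (mem_zpowers z))]
        exact hvP
      rcases hz' with h | h
      · exact ⟨z, hzz, (mul_inv_eq_iff_eq_mul.1 h).symm⟩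
      · refine ⟨t * z, htz, (mul_inv_eq_iff_eq_mul.1 ?_).symm⟩
        rw [← conj_mul, hvt', h, mul_assoc]
        congr 1
        rw [← hzz, mul_assoc, mul_inv_cancel, mul_one]
  have hq4 := orderOf_eq_four hu hqq
  have hq' : g⁻¹ * q * g ∈ P := mem_C_conj.1 (mem_C.2 (hv ▸ hvq))
  have := four _ hq' (by
    have h := H65.orderOf_conj' g⁻¹ q
    rw [inv_inv] at h
    rw [h, hq4])
  refine hgne ?_
  rw [hv, ← this]
  calc g * (g⁻¹ * q * g * (g⁻¹ * q * g)) * g⁻¹ = q * q := by group
    _ = g⁻¹ * q * g * (g⁻¹ * q * g) := by rw [hqq, this]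


end OrderFour

/-- The 2-elements of `C t` centralise or are involutions inverting the odd part. -/
theorem cn_or_inv {y : G} {k : ℕ} (hk : y ^ (2 ^ k) = 1) (hy : Commute y t) :
    Cn t y ∨ (orderOf y = 2 ∧ Inv' t y) := by
  by_cases h1 : y = 1
  · exact Or.inl (h1 ▸ H.cn_one)
  obtain ⟨j, -, hj⟩ := (Nat.dvd_prime_pow Nat.prime_two).1 (orderOf_dvd_of_pow_eq_one hk)
  obtain ⟨u, hu, huy⟩ := exists_invol_zpowers h1 hk
  by_cases hut : u = t
  · exact Or.inl (H.cn_of_t_mem hk (hut ▸ huy))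
  rcases Nat.lt_or_ge j 2 with h | h
  · have hy2 : orderOf y = 2 := by
      interval_cases j
      · exact absurd (orderOf_eq_one_iff.1 (by simpa using hj)) h1
      · simpa using hj
    have huy' : u = y :=
      invol_zpowers_unique hu hy2 huy (mem_zpowers y)
    exact Or.inr ⟨hy2, H.inv_of_ne hy2 hy (huy' ▸ hut)⟩
  · exfalso
    set z := y ^ (2 ^ (j - 2)) with hz
    have hzz : z * z = u := by
      rw [eq_half_of_mem hu huy, hz, ← pow_add, hj]
      congr 1
      have hp : 2 ^ j = 2 ^ (j - 2) * 4 := by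
        rw [show (4 : ℕ) = 2 ^ 2 from rfl, ← pow_add]; congr 1; omega
      omega
    exact H.no_order_four (hy.pow_left _) hu hzz hut

end Odd2

end Cfsg.Agent.H5.EvenCyclic
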