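import Cfsg.Agent.H5.EvenCyclic.NormalSub
import Cfsg.Agent.H5.EvenCyclic.LemmaB
import Cfsg.Agent.H65.CIT.CNStructure
import Cfsg.Agent.Linear.Order
import Cfsg.Agent.S0144

/-!
# All centralisers of involutions are 2-groups
-/

set_option autoImplicit false
set_option linter.unusedSectionVars false
set_option linter.style.haveILetI false

namespace Cfsg.Agent.H5.EvenCyclic

open Subgroup

universe u

/-- `PSL(2, 2)` and `PSL(2, 3)` are solvable. -/
theorem four_le_of_not_solvable {G : Type u} [Group G] {F : Type} [Field F] [Fintype F]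
    (e : G ≃* Matrix.ProjectiveSpecialLinearGroup (Fin 2) F) (hns : ¬ Group.IsSolvable G) :
    4 ≤ Fintype.card F := by
  by_contra hlt
  have h1 : 1 < Fintype.card F := Fintype.one_lt_card
  have h := Linear.card_PSL_two_mul (F := F)
  apply hns
  haveI : Group.IsSolvable (Matrix.ProjectiveSpecialLinearGroup (Fin 2) F) := by
    rcases (show Fintype.card F = 2 ∨ Fintype.card F = 3 by omega) with hc | hc <;> rw [hc] at h <;>
      norm_num at h
    · exact S0144.result 2 3 1 1 Nat.prime_two Nat.prime_three (by omega)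
    · exact S0144.result 2 3 2 1 Nat.prime_two Nat.prime_three (by omega)
  exact Group.isSolvable_of_isSolvable_injective (f := e.toMonoidHom) e.injective

/-- `PSL(3, 4)` fails the hypothesis. -/
theorem not_psl_three_four {F : Type} [Field F] [Fintype F] (hF : Fintype.card F = 4)
    (hP : Hyp (Matrix.ProjectiveSpecialLinearGroup (Fin 3) F)) : False := by
  classical
  obtain ⟨ω, hω0, hω1⟩ : ∃ ω : F, ω ≠ 0 ∧ ω ≠ 1 := by
    obtain ⟨ω, -, hω⟩ := Finset.exists_mem_notMem_of_card_lt_card (s := ({0, 1} : Finset F))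
      (t := Finset.univ) (lt_of_le_of_lt Finset.card_le_two (by simp [hF]))
    exact ⟨ω, fun h => hω (by simp [h]), fun h => hω (by simp [h])⟩
  haveI : CharP F 2 := by
    haveI : Fact (Nat.Prime 2) := ⟨Nat.prime_two⟩
    exact charP_of_card_eq_prime_pow (f := 2) (by rw [hF]; norm_num)
  have h2 : (1 : F) + 1 = 0 := CharTwo.add_self_eq_zero 1
  let π : Matrix.SpecialLinearGroup (Fin 3) F →* Matrix.ProjectiveSpecialLinearGroup (Fin 3) F :=
    QuotientGroup.mk' (center (Matrix.SpecialLinearGroup (Fin 3) F))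
  have hinj : ∀ A B : Matrix.SpecialLinearGroup (Fin 3) F, π A = π B →
      (A : Matrix (Fin 3) (Fin 3) F) 0 0 = 1 → (B : Matrix (Fin 3) (Fin 3) F) 0 0 = 1 → A = B := by
    intro A B h hA hB
    obtain ⟨z, hz, rfl⟩ := (QuotientGroup.mk'_eq_mk' _).1 h
    obtain ⟨r, -, hr⟩ := Matrix.SpecialLinearGroup.mem_center_iff.1 hz
    have hr' : (z : Matrix (Fin 3) (Fin 3) F) = Matrix.scalar (Fin 3) r := hr.symm
    rw [Matrix.SpecialLinearGroup.coe_mul, hr', Matrix.mul_apply, Fin.sum_univ_three] at hB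
    simp [hA] at hB
    have : z = 1 := Subtype.ext (by rw [hr', hB]; simp)
    rw [this, mul_one]
  let Y : Matrix.SpecialLinearGroup (Fin 3) F :=
    ⟨!![1, 1, 0; 0, 1, 1; 0, 0, 1], by simp [Matrix.det_fin_three]⟩
  let Z : Matrix.SpecialLinearGroup (Fin 3) F :=
    ⟨!![1, 0, 1; 0, 1, 0; 0, 0, 1], by simp [Matrix.det_fin_three]⟩
  let W : Matrix.SpecialLinearGroup (Fin 3) F :=
    ⟨!![1, ω, 0; 0, 1, 0; 0, 0, 1], by simp [Matrix.det_fin_three]⟩
  have hY : (Y : Matrix (Fin 3) (Fin 3) F) = !![1, 1, 0; 0, 1, 1; 0, 0, 1] := rfl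
  have hZ : (Z : Matrix (Fin 3) (Fin 3) F) = !![1, 0, 1; 0, 1, 0; 0, 0, 1] := rfl
  have hW : (W : Matrix (Fin 3) (Fin 3) F) = !![1, ω, 0; 0, 1, 0; 0, 0, 1] := rfl
  have hYY : Y * Y = Z := Subtype.ext (by
    ext i j
    fin_cases i <;> fin_cases j <;> simp [hY, hZ, Matrix.mul_apply, Fin.sum_univ_three, h2])
  have hZZ : Z * Z = 1 := Subtype.ext (by
    ext i j
    fin_cases i <;> fin_cases j <;> simp [hZ, Matrix.mul_apply, Fin.sum_univ_three, h2])
  have hWZ : W * Z = Z * W := Subtype.ext (by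
    ext i j
    fin_cases i <;> fin_cases j <;> simp [hZ, hW, Matrix.mul_apply, Fin.sum_univ_three])
  have hZ1 : π Z ≠ 1 := fun h => by
    have := congrArg (fun A : Matrix.SpecialLinearGroup (Fin 3) F =>
      (A : Matrix (Fin 3) (Fin 3) F) 0 2) (hinj Z 1 (by rw [h, map_one]) (by simp [hZ]) (by simp))
    simp [hZ] at this
  have hzo : orderOf (π Z) = 2 := by
    haveI : Fact (Nat.Prime 2) := ⟨Nat.prime_two⟩
    exact orderOf_eq_prime (by rw [pow_two, ← map_mul, hZZ, map_one]) hZ1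
  have hyy : π Y * π Y = π Z := by rw [← map_mul, hYY]
  have hyo := orderOf_eq_four hzo hyy
  have hmem : π W * π Y * (π W)⁻¹ ∈ zpowers (π Y) := by
    rw [← mem_normalizer_zpowers, hP.norm_self hzo (hyy ▸ mul_mem (mem_zpowers _) (mem_zpowers _))]
    exact mem_C.2 (by show π W * π Z = π Z * π W; rw [← map_mul, hWZ, map_mul])
  obtain ⟨n, hn⟩ := Submonoid.mem_powers_iff _ _ |>.1 (mem_powers_iff_mem_zpowers.2 hmem)
  have h4 : n % 4 < 4 := Nat.mod_lt _ (by norm_num)
  rw [← pow_mod_orderOf, hyo] at hn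
  have key : π (Y ^ (n % 4) * W) = π (W * Y) := by
    rw [map_mul, map_mul, map_pow, hn, inv_mul_cancel_right]
  interval_cases hm : n % 4
  all_goals
    simp only [pow_succ, pow_zero, one_mul] at key
    have h5 := hinj _ _ key (by simp [hY, hW, Matrix.mul_apply, Fin.sum_univ_three, h2])
      (by simp [hY, hW, Matrix.mul_apply, Fin.sum_univ_three, h2])
    have h6 := congrArg (fun A : Matrix.SpecialLinearGroup (Fin 3) F =>
      ((A : Matrix (Fin 3) (Fin 3) F) 0 1, (A : Matrix (Fin 3) (Fin 3) F) 0 2,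
        (A : Matrix (Fin 3) (Fin 3) F) 1 2)) h5
    simp [hY, hW, Matrix.mul_apply, Fin.sum_univ_three, h2, Prod.ext_iff] at h6
  all_goals first | exact hω0 (by linear_combination h6.2) | exact hω1 (by linear_combination h6.2) | tauto

variable {G : Type u} [Group G] [Finite G]

/-- The conclusion if all centralisers of involutions are 2-groups. -/
theorem all_two [Nontrivial G] (hP : Hyp G) (hss : Nss G) (hmix : Mix G)
    (h2 : ∀ t : G, orderOf t = 2 → Two t) :
    (∃ (F : Type) (_ : Field F) (_ : Fintype F), 3 < Fintype.card F ∧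
      Nonempty (G ≃* Matrix.ProjectiveSpecialLinearGroup (Fin 2) F)) ∨
    (∃ N : Subgroup G, N.Normal ∧ centralizer (N : Set G) = ⊥ ∧
      ∃ (F : Type) (_ : Field F) (_ : Fintype F), Odd (Fintype.card F) ∧ 5 ≤ Fintype.card F ∧
        Nonempty (↥N ≃* Matrix.ProjectiveSpecialLinearGroup (Fin 2) F)) := by
  classical
  haveI : Fact (Nat.Prime 2) := ⟨Nat.prime_two⟩
  have hns := hss.not_solvable
  have hC : H65.CIT.CIT G := fun t ht => isPGroup_of_two (h2 t ht)
  have hna : ¬ IsMulCommutative G := fun h =>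
    hns (Group.isSolvable_of_comm fun a b => h.is_comm.comm a b)
  have hO : Cfsg.pCore 2 G = ⊥ := by
    haveI : Group.IsNilpotent ↥(Cfsg.pCore 2 G) := Cores.pCore_isPGroup.isNilpotent
    exact hss _ inferInstance inferInstance
  by_cases hTI : ∀ S T : Sylow 2 G, S ≠ T → (S : Subgroup G) ⊓ (T : Subgroup G) = ⊥
  · exfalso
    obtain ⟨S⟩ : Nonempty (Sylow 2 G) := inferInstance
    obtain ⟨T, hT⟩ : ∃ T : Sylow 2 G, S ≠ T := by
      by_contra hcon
      push Not at hcon
      haveI : Subsingleton (Sylow 2 G) := ⟨fun x y => (hcon x).symm.trans (hcon y)⟩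
      haveI := S.normal_of_subsingleton
      have h1 := Cores.le_pCore (p := 2) (N := (S : Subgroup G)) S.2
      rw [hO, le_bot_iff] at h1
      exact S.ne_bot_of_dvd_card (even_iff_two_dvd.1 (H65.CIT.even_of_not_solvable hns)) h1
    obtain ⟨F, -⟩ := H65.CIT.exists_frame hC (H65.CIT.oddCore_eq_bot hC hns) hTI S T hT
    obtain ⟨s, hs, hsz, hne⟩ := hmix F.z F.hz
    refine hne (Subgroup.ext fun g => ?_)
    exact (mem_C.trans (F.mem_M_iff_commute hs (mem_C.2 hsz)).symm)
  push Not at hTI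
  have hL := H65.CIT.loc_of hC hO
  obtain ⟨A⟩ := hL.exists_amalgam hTI
  have hq : A.q = 2 ∨ A.q = 4 := by
    have h4 := hL.q_le_four A
    have h2 := A.two_le
    obtain ⟨k, hk⟩ := IsPGroup.iff_card.1 A.hT₁.2.1
    rw [A.cardT] at hk
    by_contra hcon
    have h3 : A.q = 3 := by omega
    rw [h3] at hk
    have hodd : Odd ((3 : ℕ) ^ 3) := by decide
    rw [hk] at hodd
    rcases Nat.eq_zero_or_pos k with rfl | hk0
    · norm_num at hk
    · exact absurd (even_iff_two_dvd.2 (dvd_pow_self 2 hk0.ne')) (Nat.not_even_iff_odd.2 hodd)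
  rcases A.simple_or_index_two hL hq with hsimp | ⟨N, hN, -, F, iF, iFt, hF, ⟨e⟩⟩
  · haveI := hsimp
    rcases hq with hq | hq
    · obtain ⟨F, iF, iFt, -, ⟨e⟩⟩ := A.psl_two hna hL hq
      exact Or.inl ⟨F, iF, iFt, four_le_of_not_solvable e hns, ⟨e⟩⟩
    · exfalso
      obtain ⟨a, b, hab⟩ : ∃ a b : G, a * b ≠ b * a := by
        by_contra hcon
        push Not at hcon
        exact hna ⟨⟨hcon⟩⟩
      obtain ⟨F, iF, iFt, hF, ⟨e⟩⟩ := A.psl_three_four hL (A.sylow_four hL ⟨a, b, hab⟩ hq) hq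
      exact not_psl_three_four hF (hP.of_injective e.symm.toMonoidHom e.symm.injective)
  · refine Or.inr ⟨N, hN, ?_, F, iF, iFt, by rw [hF]; decide, by omega, ⟨e⟩⟩
    haveI := hN
    haveI : Nontrivial (Matrix.ProjectiveSpecialLinearGroup (Fin 2) F) := by
      rw [← Finite.one_lt_card_iff_nontrivial]
      have h := Linear.card_PSL_two_mul (F := F)
      rw [hF, show Nat.gcd 2 (9 - 1) = 2 by decide] at h
      omega
    haveI : Nontrivial ↥N := e.toEquiv.nontrivial
    by_contra hcen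
    haveI : Nontrivial ↥(centralizer (N : Set G)) := (Subgroup.nontrivial_iff_ne_bot _).2 hcen
    obtain ⟨x, hx, hx1⟩ := exists_odd_of_not_solvable (hss.of_normal N).not_solvable
    exact no_centralise hP hss hmix (hss.of_normal (centralizer (N : Set G)))
      (x := (x : G)) (by rwa [orderOf_coe]) (fun e => hx1 (Subtype.ext e))
      fun k hk => (mem_centralizer_iff.1 hk x x.2).symm

end Cfsg.Agent.H5.EvenCyclic
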