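import Mathlib
import Cfsg.Agent.H65.Invol

/-!
# Groups in which cyclic subgroups of even order share normalisers with their nontrivial subgroups

The basic equalities: if the involution `t` is a power of `g` then `N⟨h⟩ = C(t)` for every
nontrivial power `h` of `g`; in particular this holds for every element of odd order commuting
with `t`.
-/

set_option autoImplicit false
set_option linter.unusedSectionVars false

namespace Cfsg.Agent.H5.EvenCyclic

open Subgroup

universe u v

variable {G : Type u} [Group G]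

/-- The hypothesis, phrased with generators. -/
structure Hyp (G : Type u) [Group G] : Prop where
  key : ∀ g : G, Even (orderOf g) → ∀ h ∈ zpowers g, h ≠ 1 →
    normalizer (zpowers g : Set G) = normalizer (zpowers h : Set G)

/-- No nontrivial solvable normal subgroup. -/
def Nss (G : Type u) [Group G] : Prop :=
  ∀ N : Subgroup G, N.Normal → Group.IsSolvable ↥N → N = ⊥

/-- The centraliser of an element. -/
abbrev C (t : G) : Subgroup G := centralizer ({t} : Set G)

theorem mem_C {x t : G} : x ∈ C t ↔ Commute x t := mem_centralizer_singleton_iff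

theorem self_mem_C (t : G) : t ∈ C t := mem_C.2 (Commute.refl t)

/-- The centraliser of `t` is a 2-group. -/
def Two (t : G) : Prop := ∀ x : G, Commute x t → Odd (orderOf x) → x = 1

/-- In every centraliser of an involution some involution has another centraliser. -/
def Mix (G : Type u) [Group G] : Prop :=
  ∀ t : G, orderOf t = 2 → ∃ s : G, orderOf s = 2 ∧ Commute s t ∧ C s ≠ C t

theorem of_subgroups
    (hii : ∀ X : Subgroup G, IsCyclic ↥X → Even (Nat.card ↥X) → ∀ Y : Subgroup G, Y ≤ X → Y ≠ ⊥ →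
      normalizer (X : Set G) = normalizer (Y : Set G)) : Hyp G :=
  ⟨fun g hg h hh h1 => hii (zpowers g) inferInstance (by rwa [Nat.card_zpowers]) (zpowers h)
    (zpowers_le.2 hh) (fun e => h1 (zpowers_eq_bot.1 e))⟩

section cyclic

theorem zpowers_comm {g : G} (a b : ↥(zpowers g)) : a * b = b * a := by
  obtain ⟨i, hi⟩ := mem_zpowers_iff.1 a.2
  obtain ⟨j, hj⟩ := mem_zpowers_iff.1 b.2
  exact Subtype.ext (by rw [coe_mul, coe_mul, ← hi, ← hj, ← zpow_add, ← zpow_add, add_comm])

theorem eq_one_or_eq_of_mem_zpowers {t y : G} (ht : orderOf t = 2) (hy : y ∈ zpowers t) :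
    y = 1 ∨ y = t := by
  obtain ⟨k, rfl⟩ := mem_zpowers_iff.1 hy
  rw [← zpow_mod_orderOf, ht]
  rcases Int.emod_two_eq_zero_or_one k with h | h
  · left; simp [h]
  · right; simp [h]

theorem orderOf_half {g : G} (h0 : orderOf g ≠ 0) (he : Even (orderOf g)) :
    orderOf (g ^ (orderOf g / 2)) = 2 := by
  obtain ⟨k, hk⟩ := he
  rw [orderOf_pow' _ (by omega), Nat.gcd_eq_right ⟨2, by omega⟩, hk]
  rw [show (k + k) / 2 = k by omega, show k + k = 2 * k by omega, Nat.mul_div_cancel _ (by omega)]

variable [Finite G]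

theorem even_of_invol_mem {g t : G} (ht : orderOf t = 2) (htg : t ∈ zpowers g) :
    Even (orderOf g) :=
  even_iff_two_dvd.2 (ht ▸ orderOf_dvd_of_mem_zpowers htg)

theorem eq_half_of_mem {g t : G} (ht : orderOf t = 2) (htg : t ∈ zpowers g) :
    t = g ^ (orderOf g / 2) := by
  obtain ⟨i, hilt, rfl⟩ : ∃ i, i < orderOf g ∧ g ^ i = t := by
    obtain ⟨n, hn⟩ := Submonoid.mem_powers_iff _ _ |>.1 (mem_powers_iff_mem_zpowers.2 htg)
    exact ⟨n % orderOf g, Nat.mod_lt _ (orderOf_pos g), (pow_mod_orderOf g n).trans hn⟩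
  have h2 : g ^ (i * 2) = 1 := by rw [pow_mul, pow_two, H65.mul_self_eq_one ht]
  obtain ⟨j, hj⟩ := orderOf_dvd_of_pow_eq_one h2
  have hi0 : i ≠ 0 := fun h => by simp [h] at ht
  rcases j with _ | _ | j
  · omega
  · congr 1; omega
  · have h3 : orderOf g * 2 ≤ orderOf g * (j + 1 + 1) := Nat.mul_le_mul_left _ (by omega)
    omega

theorem invol_zpowers_unique {g t u : G} (ht : orderOf t = 2) (hu : orderOf u = 2)
    (htg : t ∈ zpowers g) (hug : u ∈ zpowers g) : t = u :=
  (eq_half_of_mem ht htg).trans (eq_half_of_mem hu hug).symm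

/-- A nontrivial 2-element has an involution among its powers. -/
theorem exists_invol_zpowers {g : G} (h1 : g ≠ 1) {k : ℕ} (hk : g ^ (2 ^ k) = 1) :
    ∃ t, orderOf t = 2 ∧ t ∈ zpowers g := by
  obtain ⟨j, -, hj⟩ := (Nat.dvd_prime_pow Nat.prime_two).1 (orderOf_dvd_of_pow_eq_one hk)
  refine ⟨_, orderOf_half (orderOf_pos g).ne' ?_, npow_mem_zpowers g _⟩
  rw [hj]
  exact Nat.even_pow.2 ⟨even_two, fun h => h1 (orderOf_eq_one_iff.1 (by rw [hj, h, pow_zero]))⟩

theorem mem_normalizer_zpowers {g h : G} :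
    g ∈ normalizer (zpowers h : Set G) ↔ g * h * g⁻¹ ∈ zpowers h := by
  refine ⟨fun hg => (mem_normalizer_iff.1 hg h).1 (mem_zpowers h), fun hg => ?_⟩
  have hle : (zpowers h).map (MulAut.conj g).toMonoidHom ≤ zpowers h := by
    rw [MonoidHom.map_zpowers, zpowers_le]; exact hg
  have heq : (zpowers h).map (MulAut.conj g).toMonoidHom = zpowers h := by
    refine eq_of_le_of_card_ge hle ?_
    rw [card_map_of_injective (MulAut.conj g).injective]
  refine mem_normalizer_iff.2 fun y => ⟨fun hy => hle ⟨y, hy, rfl⟩, fun hy => ?_⟩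
  rw [← heq] at hy
  obtain ⟨z, hz, he⟩ := hy
  rwa [(MulAut.conj g).injective (show MulAut.conj g z = MulAut.conj g y from he)] at hz

/-- An element of odd order commuting with an element of 2-power order... -/
theorem odd_pow_two {x : G} (hx : Odd (orderOf x)) {k : ℕ} (hk : x ^ (2 ^ k) = 1) : x = 1 :=
  orderOf_eq_one_iff.1 (Nat.eq_one_of_dvd_coprimes ((Nat.coprime_two_left.2 hx).pow_left k)
    (orderOf_dvd_of_pow_eq_one hk) dvd_rfl)

theorem isPGroup_of_two {t : G} (h : Two t) : IsPGroup 2 ↥(C t) := by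
  rintro ⟨x, hx⟩
  obtain ⟨k, m, hm, hkm⟩ := Nat.exists_eq_two_pow_mul_odd (orderOf_pos x).ne'
  refine ⟨k, Subtype.ext (h _ ((mem_C.1 hx).pow_left _) ?_)⟩
  show Odd (orderOf (x ^ 2 ^ k))
  rw [orderOf_pow' _ (by positivity), hkm, Nat.gcd_eq_right ⟨m, rfl⟩,
    Nat.mul_div_cancel_left _ (by positivity)]
  exact hm

theorem two_of_isPGroup {t : G} (h : IsPGroup 2 ↥(C t)) : Two t := fun x hx hodd => by
  obtain ⟨k, hk⟩ := h ⟨x, mem_C.2 hx⟩
  exact odd_pow_two hodd (congrArg Subtype.val hk)

theorem not_two_iff {t : G} : ¬ Two t ↔ ∃ x : G, Commute x t ∧ Odd (orderOf x) ∧ x ≠ 1 := by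
  simp only [Two]
  push Not
  rfl

theorem mem_C_conj {g t y : G} : y ∈ C (g * t * g⁻¹) ↔ g⁻¹ * y * g ∈ C t := by
  rw [mem_C, mem_C]
  constructor
  · intro h
    have := h.map (MulAut.conj g⁻¹).toMonoidHom
    simpa [mul_assoc] using this
  · intro h
    have := h.map (MulAut.conj g).toMonoidHom
    simpa [mul_assoc] using this

theorem C_conj_congr {t t' : G} (h : C t' = C t) (g : G) : C (g * t' * g⁻¹) = C (g * t * g⁻¹) := by
  ext y; rw [mem_C_conj, mem_C_conj, h]

theorem C_conj_of_mem_normalizer {g t : G} (h : g ∈ normalizer (C t : Set G)) :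
    C (g * t * g⁻¹) = C t := by
  ext y
  rw [mem_C_conj]
  exact (mem_normalizer_iff''.1 h y).symm

theorem mem_normalizer_of_C_conj {g t : G} (h : C (g * t * g⁻¹) = C t) :
    g ∈ normalizer (C t : Set G) := by
  refine mem_normalizer_iff''.2 fun y => ?_
  rw [← mem_C_conj, h]

theorem not_two_conj {g t : G} (h : ¬ Two t) : ¬ Two (g * t * g⁻¹) := by
  obtain ⟨x, hx, ho, h1⟩ := not_two_iff.1 h
  refine not_two_iff.2 ⟨g * x * g⁻¹, ?_, by rwa [H65.orderOf_conj'], fun e => h1 (conj_eq_one_iff.1 e)⟩
  have := hx.map (MulAut.conj g).toMonoidHom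
  simpa using this

end cyclic

namespace Hyp

variable [Finite G] (hP : Hyp G)

include hP

/-- If the involution `t` is a power of `g`, all nontrivial powers of `g` have normaliser `C t`. -/
theorem norm_eq {t g h : G} (ht : orderOf t = 2) (htg : t ∈ zpowers g) (hh : h ∈ zpowers g)
    (h1 : h ≠ 1) : normalizer (zpowers h : Set G) = C t := by
  have he := even_of_invol_mem ht htg
  rw [← hP.key g he h hh h1, hP.key g he t htg (H65.ne_one_of_orderOf ht)]
  ext y
  rw [mem_normalizer_zpowers, mem_C]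
  constructor
  · intro hy
    rcases eq_one_or_eq_of_mem_zpowers ht hy with h | h
    · exact absurd (conj_eq_one_iff.1 h) (H65.ne_one_of_orderOf ht)
    · exact mul_inv_eq_iff_eq_mul.1 h
  · intro hy
    rw [mul_inv_eq_iff_eq_mul.2 hy.eq]
    exact mem_zpowers t

theorem norm_self {t g : G} (ht : orderOf t = 2) (htg : t ∈ zpowers g) :
    normalizer (zpowers g : Set G) = C t :=
  hP.norm_eq ht htg (mem_zpowers g) fun e => H65.ne_one_of_orderOf ht (by
    rw [e, zpowers_one_eq_bot] at htg; exact htg)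

/-- The normaliser of an element of odd order commuting with `t`. -/
theorem norm_odd {t x : G} (ht : orderOf t = 2) (hx : Odd (orderOf x)) (hx1 : x ≠ 1)
    (hc : Commute x t) : normalizer (zpowers x : Set G) = C t := by
  have htg : t ∈ zpowers (x * t) := by
    obtain ⟨j, hj⟩ := hx
    have h : (x * t) ^ orderOf x = t := by
      rw [hc.mul_pow, pow_orderOf_eq_one, one_mul, hj, pow_succ, pow_mul, pow_two,
        H65.mul_self_eq_one ht, one_pow, one_mul]
    have h2 := npow_mem_zpowers (x * t) (orderOf x)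
    rwa [h] at h2
  have hxg : x ∈ zpowers (x * t) := by
    have := mul_mem (mem_zpowers (x * t)) (inv_mem htg)
    rwa [mul_inv_cancel_right] at this
  exact hP.norm_eq ht htg hxg hx1

/-- Two involutions centralising a common element of odd order have the same centraliser. -/
theorem C_eq_of_common {t u x : G} (ht : orderOf t = 2) (hu : orderOf u = 2) (hx : Odd (orderOf x))
    (hx1 : x ≠ 1) (hct : Commute x t) (hcu : Commute x u) : C t = C u :=
  (hP.norm_odd ht hx hx1 hct).symm.trans (hP.norm_odd hu hx hx1 hcu)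

/-- Elements of odd order of `C t` generate subgroups normal in `C t`. -/
theorem conj_mem {t x g : G} (ht : orderOf t = 2) (hx : Odd (orderOf x)) (hc : Commute x t)
    (hg : Commute g t) : g * x * g⁻¹ ∈ zpowers x := by
  rcases eq_or_ne x 1 with rfl | hx1
  · simp
  rw [← mem_normalizer_zpowers, hP.norm_odd ht hx hx1 hc]
  exact mem_C.2 hg

/-- The elements of odd order of the centraliser of an involution form a subgroup. -/
def oset {t : G} (ht : orderOf t = 2) : Subgroup G where
  carrier := {x | Commute x t ∧ Odd (orderOf x)}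
  one_mem' := ⟨Commute.one_left t, by simp⟩
  inv_mem' := fun {x} h => ⟨h.1.inv_left, by rw [orderOf_inv]; exact h.2⟩
  mul_mem' := fun {x y} hx hy => ⟨hx.1.mul_left hy.1, by
    have key : ∀ n : ℕ, (x * y) ^ n * (y ^ n)⁻¹ ∈ zpowers x := by
      intro n
      induction n with
      | zero => simp
      | succ n ih =>
        have h1 := hP.conj_mem ht hx.2 hx.1 (hy.1.pow_left n)
        have h2 := mul_mem ih h1
        rwa [show (x * y) ^ n * (y ^ n)⁻¹ * (y ^ n * x * (y ^ n)⁻¹)
          = (x * y) ^ (n + 1) * (y ^ (n + 1))⁻¹ by rw [pow_succ, pow_succ]; group] at h2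
    have h := key (orderOf y)
    rw [pow_orderOf_eq_one, inv_one, mul_one] at h
    have h2 : (x * y) ^ (orderOf y * orderOf x) = 1 := by
      rw [pow_mul]
      exact orderOf_dvd_iff_pow_eq_one.1 (orderOf_dvd_of_mem_zpowers h)
    exact (hy.2.mul hx.2).of_dvd_nat (orderOf_dvd_of_pow_eq_one h2)⟩

theorem mem_oset {t x : G} (ht : orderOf t = 2) :
    x ∈ hP.oset ht ↔ Commute x t ∧ Odd (orderOf x) := Iff.rfl

/-- An involution of `C t` with another centraliser acts on the odd part by inversion. -/
theorem inverts {t s x : G} (ht : orderOf t = 2) (hs : orderOf s = 2) (hst : Commute s t)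
    (hne : C s ≠ C t) (hx : Commute x t) (hxo : Odd (orderOf x)) : s * x * s⁻¹ = x⁻¹ := by
  have hmem : ∀ y ∈ hP.oset ht, s * y * s⁻¹ ∈ hP.oset ht := fun y hy => by
    refine ⟨?_, by rw [H65.orderOf_conj']; exact hy.2⟩
    exact (hst.mul_left hy.1).mul_left hst.inv_left
  let φ : ↥(hP.oset ht) →* ↥(hP.oset ht) := MonoidHom.mk' (fun y => ⟨s * y * s⁻¹, hmem y y.2⟩)
    fun a b => Subtype.ext (by simp [mul_assoc])
  have hfree : MonoidHom.FixedPointFree φ := by
    intro y hy
    by_contra hy1
    have h : Commute (y : G) s := by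
      have := congrArg Subtype.val hy
      exact (mul_inv_eq_iff_eq_mul.1 this).symm
    exact hne (hP.C_eq_of_common hs ht y.2.2 (fun e => hy1 (Subtype.ext e)) h y.2.1)
  have hinv : Function.Involutive φ := fun y => Subtype.ext (by
    show s * (s * (y : G) * s⁻¹) * s⁻¹ = y
    rw [H65.inv_eq_self hs, show s * (s * (y : G) * s) * s = (s * s) * y * (s * s) by
      simp only [mul_assoc], H65.mul_self_eq_one hs, one_mul, mul_one])
  have := congrFun (hfree.coe_eq_inv_of_involutive hinv) ⟨x, hx, hxo⟩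
  exact congrArg Subtype.val this

/-- In the mixed case the odd part of an involution centraliser is abelian. -/
theorem oset_comm (hmix : Mix G) {t x y : G} (ht : orderOf t = 2) (hx : Commute x t)
    (hxo : Odd (orderOf x)) (hy : Commute y t) (hyo : Odd (orderOf y)) : Commute x y := by
  obtain ⟨s, hs, hst, hne⟩ := hmix t ht
  have h := hP.inverts ht hs hst hne (hx.mul_left hy)
    ((hP.oset ht).mul_mem ⟨hx, hxo⟩ ⟨hy, hyo⟩).2
  rw [← conj_mul, hP.inverts ht hs hst hne hx hxo, hP.inverts ht hs hst hne hy hyo] at h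
  rw [mul_inv_rev] at h
  exact Commute.inv_inv_iff.1 h

end Hyp

theorem Hyp.of_injective {H : Type v} [Group H] [Finite H] [Finite G] (hP : Hyp G) (f : H →* G)
    (hf : Function.Injective f) : Hyp H := by
  refine ⟨fun g hg h hh h1 => ?_⟩
  have hm : ∀ a b : H, f a ∈ zpowers (f b) ↔ a ∈ zpowers b := fun a b => by
    rw [← MonoidHom.map_zpowers]; exact mem_map_iff_mem hf
  have key := hP.key (f g) (by rwa [orderOf_injective f hf]) (f h) ((hm h g).2 hh)
    (fun e => h1 (hf (by rw [e, map_one])))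
  ext a
  have := congrArg (fun K : Subgroup G => f a ∈ K) key
  simp only [mem_normalizer_zpowers, ← map_inv, ← map_mul, hm] at this
  rw [mem_normalizer_zpowers, mem_normalizer_zpowers]
  exact this.to_iff

/-- The centraliser of an involution is not normal. -/
theorem C_not_normal [Finite G] (hss : Nss G) {t : G} (ht : orderOf t = 2) :
    normalizer (C t : Set G) ≠ ⊤ := by
  intro h
  have hall : ∀ g : G, ∀ g' : G, Commute (g * t * g⁻¹) (g' * t * g'⁻¹) := by
    intro g g'
    have h1 : C (g' * t * g'⁻¹) = C t := by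
      ext y
      rw [mem_C_conj, ← mem_normalizer_iff''.1 (h ▸ mem_top g') y]
    have h2 : g * t * g⁻¹ ∈ C t :=
      (mem_normalizer_iff.1 (h ▸ mem_top g) t).1 (self_mem_C t)
    exact mem_C.1 (h1.symm ▸ h2)
  set S : Set G := Group.conjugatesOfSet ({t} : Set G) with hS
  have hSS : ∀ a ∈ S, ∀ b ∈ S, Commute a b := by
    intro a ha b hb
    obtain ⟨a', ha', hac⟩ := Group.mem_conjugatesOfSet_iff.1 ha
    obtain ⟨b', hb', hbc⟩ := Group.mem_conjugatesOfSet_iff.1 hb
    rw [Set.mem_singleton_iff] at ha' hb'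
    rw [ha'] at hac
    rw [hb'] at hbc
    obtain ⟨g, rfl⟩ := isConj_iff.1 hac
    obtain ⟨g', rfl⟩ := isConj_iff.1 hbc
    exact hall g g'
  have h1 : closure S ≤ centralizer S :=
    (closure_le _).2 fun a ha => mem_centralizer_iff.2 fun b hb => hSS b hb a ha
  have h2 : closure S ≤ centralizer (closure S : Set G) :=
    (closure_le _).2 fun a ha => mem_centralizer_iff.2 fun b hb =>
      (mem_centralizer_iff.1 (h1 hb) a ha).symm
  have hsol : Group.IsSolvable ↥(normalClosure ({t} : Set G)) :=
    Group.isSolvable_of_comm fun a b => Subtype.ext (mem_centralizer_iff.1 (h2 b.2) a a.2)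
  have ht1 : t ∈ normalClosure ({t} : Set G) := subset_normalClosure rfl
  rw [hss _ normalClosure_normal hsol] at ht1
  exact H65.ne_one_of_orderOf ht ht1

end Cfsg.Agent.H5.EvenCyclic
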