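import Cfsg.Agent.H5.EvenCyclic.Basic
import Cfsg.Agent.H70.SzUnique.FrameSimple
import Cfsg.Agent.S0205

/-!
# The case of an involution whose centraliser is the centraliser of all its involutions

Then the group is `PSL(2, 2^n)`.
-/

set_option autoImplicit false
set_option linter.unusedSectionVars false
set_option linter.style.haveILetI false

namespace Cfsg.Agent.H5.EvenCyclic

open Subgroup

universe u

variable {G : Type u} [Group G] [Finite G]

theorem Nss.odd_eq_bot (hss : Nss G) {K : Subgroup G} (hK : K.Normal) (ho : Odd (Nat.card ↥K)) :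
    K = ⊥ :=
  hss K hK (S0205.result ho)

/-- The frame. -/
theorem exists_frame (hP : Hyp G) (hss : Nss G) {t : G} (ht : orderOf t = 2)
    (hall : ∀ s, orderOf s = 2 → Commute s t → C s = C t) :
    ∃ F : H65.CIT.Frame G, F.z = t ∧ ∀ x ∈ C t, x ≠ 1 → normalizer (zpowers x : Set G) = C t := by
  classical
  haveI : Fact (Nat.Prime 2) := ⟨Nat.prime_two⟩
  have key : ∀ x ∈ C t, x ≠ 1 → normalizer (zpowers x : Set G) = C t := by
    intro x hx hx1
    rcases Nat.even_or_odd (orderOf x) with he | ho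
    · have hw := orderOf_half (orderOf_pos x).ne' he
      rw [hP.norm_self hw (npow_mem_zpowers x _)]
      exact hall _ hw ((mem_C.1 hx).pow_left _)
    · exact hP.norm_odd ht ho hx1 (mem_C.1 hx)
  have hS : ∃ S : Sylow 2 G, (S : Subgroup G) ≤ C t := by
    obtain ⟨S, hS⟩ := (IsPGroup.of_card (G := zpowers t) (n := 1)
      (by rw [Nat.card_zpowers, ht, pow_one])).exists_le_sylow
    have htS : t ∈ (S : Subgroup G) := hS (mem_zpowers t)
    haveI : Nontrivial ↥(S : Subgroup G) :=
      ⟨⟨⟨t, htS⟩, 1, fun e => H65.ne_one_of_orderOf ht (congrArg Subtype.val e)⟩⟩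
    haveI := S.2.center_nontrivial
    obtain ⟨z₀, hz₀⟩ := exists_ne (1 : center ↥(S : Subgroup G))
    obtain ⟨k, hk⟩ := S.2.to_subgroup (center ↥(S : Subgroup G)) z₀
    obtain ⟨z, hz, hzm⟩ := exists_invol_zpowers (g := ((z₀ : ↥(S : Subgroup G)) : G))
      (fun e => hz₀ (Subtype.ext (Subtype.ext e)))
      (k := k) (by
        have h := congrArg (fun w : center ↥(S : Subgroup G) => ((w : ↥(S : Subgroup G)) : G)) hk
        simpa using h)
    have hcz : ∀ s ∈ (S : Subgroup G), Commute s z := by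
      intro s hs
      obtain ⟨i, rfl⟩ := mem_zpowers_iff.1 hzm
      exact (congrArg Subtype.val (mem_center_iff.1 z₀.2 ⟨s, hs⟩) : s * _ = _ * s) |>
        fun h => Commute.zpow_right h i
    refine ⟨S, fun s hs => ?_⟩
    rw [← hall z hz (hcz t htS).symm]
    exact mem_C.2 (hcz s hs)
  refine ⟨{ z := t, hz := ht, hS := hS, cc := fun x hx hx1 g hg => ?_, ti := fun x hx hx1 g hg => ?_,
            not_normal := C_not_normal hss ht, invol_le := fun u hu huN => ?_,
            odd_core := fun K hK ho => hss.odd_eq_bot hK ho }, rfl, key⟩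
  · show g ∈ C t
    rw [← key x hx hx1, mem_normalizer_zpowers, mul_inv_eq_iff_eq_mul.2 (mem_C.1 hg).eq]
    exact mem_zpowers x
  · have h1 : g * x * g⁻¹ ≠ 1 := fun e => hx1 (conj_eq_one_iff.1 e)
    refine mem_normalizer_iff.2 fun y => ?_
    have e : g * y * g⁻¹ * (g * x * g⁻¹) * (g * y * g⁻¹)⁻¹ = g * (y * x * y⁻¹) * g⁻¹ := by group
    have hz : zpowers (g * x * g⁻¹) = (zpowers x).map (MulAut.conj g).toMonoidHom := by
      rw [MonoidHom.map_zpowers]; rfl
    have iff1 : y ∈ C t ↔ y * x * y⁻¹ ∈ zpowers x := by rw [← key x hx hx1, mem_normalizer_zpowers]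
    have iff2 : g * y * g⁻¹ ∈ C t ↔ g * (y * x * y⁻¹) * g⁻¹ ∈ zpowers (g * x * g⁻¹) := by
      rw [← key _ hg h1, mem_normalizer_zpowers, e]
    show y ∈ C t ↔ g * y * g⁻¹ ∈ C t
    rw [iff1, iff2, hz]
    exact (mem_map_iff_mem (MulAut.conj g).injective).symm
  · show u ∈ C t
    have hu' := H65.inv_eq_self hu
    have ht' : u * t * u ∈ C t := by
      have := (mem_normalizer_iff.1 huN t).1 (self_mem_C t)
      rwa [hu'] at this
    by_cases h : t = u * t * u
    · refine mem_C.2 ?_
      have := congrArg (fun z => u * z) h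
      simp only [← mul_assoc, H65.mul_self_eq_one hu, one_mul] at this
      exact this
    · have hto : orderOf (u * t * u) = 2 := by
        rw [← ht, ← H65.orderOf_conj' u t, hu']
      have hw : orderOf (t * (u * t * u)) = 2 := H65.orderOf_mul_two ht hto (mem_C.1 ht').symm h
      have hwC : C (t * (u * t * u)) = C t :=
        hall _ hw ((Commute.refl t).mul_left (mem_C.1 ht'))
      have hfix : Commute u (t * (u * t * u)) := by
        show u * (t * (u * t * u)) = t * (u * t * u) * u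
        calc u * (t * (u * t * u)) = u * t * u * t * u := by simp only [mul_assoc]
          _ = t * (u * t * u) * u := by rw [(mem_C.1 ht').eq]
      exact hwC ▸ mem_C.2 hfix

/-- In the first case the group is `PSL(2, 2^n)`. -/
theorem psl_even (hP : Hyp G) (hss : Nss G) {t : G} (ht : orderOf t = 2)
    (hall : ∀ s, orderOf s = 2 → Commute s t → C s = C t) :
    ∃ n : ℕ, 2 ≤ n ∧
      Nonempty (G ≃* Matrix.ProjectiveSpecialLinearGroup (Fin 2) (GaloisField 2 n)) := by
  classical
  obtain ⟨F, hFz, key⟩ := exists_frame hP hss ht hall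
  subst hFz
  haveI := H70.SzUnique.isSimpleGroup_of_frame F
  have hM2 := F.isPGroup_M
  -- the involution attached to an element
  let w : G → G := fun a => a ^ (orderOf a / 2)
  have hev : ∀ a ∈ F.M, a ≠ 1 → Even (orderOf a) := by
    intro a ha ha1
    obtain ⟨k, hk⟩ := hM2 ⟨a, ha⟩
    by_contra ho
    exact ha1 (odd_pow_two (Nat.not_even_iff_odd.1 ho) (congrArg Subtype.val hk))
  have hw : ∀ a ∈ F.M, a ≠ 1 → orderOf (w a) = 2 := fun a ha ha1 =>
    orderOf_half (orderOf_pos a).ne' (hev a ha ha1)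
  have hnorm : ∀ a ∈ F.M, ∀ b ∈ F.M, a * b * a⁻¹ ∈ zpowers b := by
    intro a ha b hb
    rcases eq_or_ne b 1 with rfl | hb1
    · simp
    · rw [← mem_normalizer_zpowers, key b hb hb1]; exact ha
  -- different involutions give commuting elements
  have hdiff : ∀ a ∈ F.M, ∀ b ∈ F.M, a ≠ 1 → b ≠ 1 → w a ≠ w b → Commute a b := by
    intro a ha b hb ha1 hb1 hne
    have h1 : a * b * a⁻¹ * b⁻¹ ∈ zpowers b := mul_mem (hnorm a ha b hb) (inv_mem (mem_zpowers b))
    have h2 : a * b * a⁻¹ * b⁻¹ ∈ zpowers a := by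
      have h3 := hnorm b hb a⁻¹ (inv_mem ha)
      rw [zpowers_inv] at h3
      have := mul_mem (mem_zpowers a) h3
      simpa [mul_assoc] using this
    by_contra hc
    have hc1 : a * b * a⁻¹ * b⁻¹ ≠ 1 := fun e =>
      hc (mul_inv_eq_iff_eq_mul.1 (mul_inv_eq_one.1 e))
    obtain ⟨k, hk⟩ := hM2 ⟨_, mul_mem (mul_mem (mul_mem ha hb) (inv_mem ha)) (inv_mem hb)⟩
    obtain ⟨v, hv, hvm⟩ := exists_invol_zpowers hc1 (congrArg Subtype.val hk)
    exact hne ((invol_zpowers_unique (hw a ha ha1) hv (npow_mem_zpowers a _)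
      (zpowers_le.2 h2 hvm)).trans
      (invol_zpowers_unique hv (hw b hb hb1) (zpowers_le.2 h1 hvm) (npow_mem_zpowers b _)))
  have hcomm : ∀ a ∈ F.M, ∀ b ∈ F.M, Commute a b := by
    intro a ha b hb
    by_cases ha1 : a = 1
    · subst ha1; exact Commute.one_left b
    by_cases hb1 : b = 1
    · subst hb1; exact Commute.one_right a
    by_cases heq : w a = w b
    swap
    · exact hdiff a ha b hb ha1 hb1 heq
    -- another involution
    have hwaM : w a ∈ F.M := pow_mem ha _
    obtain ⟨v, hv, hvM, hvne⟩ : ∃ v : G, orderOf v = 2 ∧ v ∈ F.M ∧ v ≠ w a := by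
      by_contra hcon
      push Not at hcon
      have h2 := F.two_le_m
      rw [← F.card_invol] at h2
      haveI : Subsingleton {v : G // orderOf v = 2 ∧ v ∈ F.M} :=
        ⟨fun x y => Subtype.ext ((hcon x x.2.1 x.2.2).trans (hcon y y.2.1 y.2.2).symm)⟩
      have := Finite.card_le_one_iff_subsingleton.2 this
      omega
    obtain ⟨n₁, hn₁, hn₁'⟩ := F.exists_conj_N (hw a ha ha1) hwaM
    obtain ⟨n₂, hn₂, hn₂'⟩ := F.exists_conj_N hv hvM
    set n := n₂ * n₁⁻¹ with hn
    have hnN : n ∈ F.N := mul_mem hn₂ (inv_mem hn₁)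
    have hwn : n * w a * n⁻¹ = v := by
      rw [← hn₁', ← hn₂', hn]; group
    set d := n * a * n⁻¹ with hd
    have hdM : d ∈ F.M := F.conj_mem hnN ha
    have hd1 : d ≠ 1 := fun e => ha1 (conj_eq_one_iff.1 e)
    have hod : orderOf d = orderOf a := H65.orderOf_conj' n a
    have hwd : w d = v := by
      show d ^ (orderOf d / 2) = v
      rw [hod, hd, conj_pow]; exact hwn
    have hda : Commute d a := hdiff d hdM a ha hd1 ha1 (hwd ▸ hvne)
    have hdb : Commute d b := hdiff d hdM b hb hd1 hb1 (by rw [hwd, ← heq]; exact hvne)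
    have hpow : (a * d) ^ (orderOf a / 2) = w a * v := by
      rw [hda.symm.mul_pow, ← hwd]
      show _ = w a * d ^ (orderOf d / 2)
      rw [hod]
    have hwv : orderOf (w a * v) = 2 :=
      H65.orderOf_mul_two (hw a ha ha1) hv (hwd ▸ (hda.symm.pow_pow _ _)) (Ne.symm hvne)
    have had1 : a * d ≠ 1 := fun e => by
      rw [e, one_pow] at hpow
      rw [← hpow, orderOf_one] at hwv
      omega
    have hne : w (a * d) ≠ w b := by
      intro e
      have h1 := invol_zpowers_unique (hw (a * d) (mul_mem ha hdM) had1) hwv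
        (npow_mem_zpowers (a * d) _) (hpow ▸ npow_mem_zpowers (a * d) _)
      rw [e, ← heq] at h1
      exact H65.ne_one_of_orderOf hv (left_eq_mul.1 h1)
    have h := hdiff (a * d) (mul_mem ha hdM) b hb had1 hb1 hne
    have := h.mul_left hdb.inv_left
    rwa [mul_inv_cancel_right] at this
  obtain ⟨hZ, hker⟩ := F.zassenhaus
  obtain ⟨P, hP'⟩ := F.exists_ne_base
  rcases F.classification with h | ⟨-, m, hm, hcard⟩
  · exact h
  exfalso
  have hMm : F.m + 1 = Nat.card ↥F.M := by
    rcases H28.Zass.kernel_cases hker hZ hP'.symm (fun a ha b hb => (hcomm a ha b hb).eq) with h | h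
    · rwa [F.card_two hP'] at h
    · have h2 := F.hz ▸ Subgroup.orderOf_dvd_natCard F.M F.z_mem
      omega
  have hcard' := hker.card_group hZ hP'.symm
  rw [F.card_points, F.card_two hP'] at hcard'
  obtain ⟨k, hk⟩ := IsPGroup.iff_card.1 hM2
  rw [hcard, hk] at hcard'
  rw [hk] at hMm
  set q := 2 ^ (2 * m + 1) with hq
  have h1 : (q ^ 2) * ((q ^ 2 + 1) * (q - 1)) = 2 ^ k * ((2 ^ k + 1) * F.m) := by
    rw [← mul_assoc, hcard']; ring
  have hqe : q ^ 2 = 2 ^ ((2 * m + 1) * 2) := by rw [hq, ← pow_mul]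
  have hqeven : Even q := Nat.even_pow.2 ⟨even_two, by omega⟩
  have hq1 : 1 ≤ q := Nat.one_le_two_pow
  have hk0 : k ≠ 0 := by
    rintro rfl
    have := F.two_le_m
    omega
  have hkeven : Even (2 ^ k) := Nat.even_pow.2 ⟨even_two, hk0⟩
  have hodd1 : ¬ 2 ∣ (q ^ 2 + 1) * (q - 1) := by
    rw [← even_iff_two_dvd, Nat.even_mul, Nat.even_add_one, Nat.even_pow, Nat.even_sub hq1]
    simp [hqeven]
  have hodd2 : ¬ 2 ∣ (2 ^ k + 1) * F.m := by
    rw [← even_iff_two_dvd, Nat.even_mul, Nat.even_add_one]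
    rintro (h | h)
    · exact h hkeven
    · exact Nat.not_even_iff_odd.2 (F.card_two hP' ▸ F.odd_two hP') h
  have hkk : k = (2 * m + 1) * 2 := by
    rw [hqe] at h1 hodd1
    refine le_antisymm ?_ ?_
    · exact Nat.pow_dvd_pow_iff_le_right'.1 ((((Nat.prime_two.coprime_iff_not_dvd.2 hodd1).pow_left k)
        ).dvd_of_dvd_mul_right (h1 ▸ dvd_mul_right _ _))
    · exact Nat.pow_dvd_pow_iff_le_right'.1 ((((Nat.prime_two.coprime_iff_not_dvd.2 hodd2).pow_left _)
        ).dvd_of_dvd_mul_right (h1.symm ▸ dvd_mul_right _ _))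
  subst hkk
  rw [← hqe] at h1 hMm
  have h3 := Nat.eq_of_mul_eq_mul_left (by positivity) h1
  have h4 : q - 1 = F.m := Nat.eq_of_mul_eq_mul_left (by positivity) h3
  have h5 : q < q ^ 2 := by
    have : 2 ≤ q :=
      le_trans (by norm_num) (Nat.pow_le_pow_right (by norm_num) (show 1 ≤ 2 * m + 1 by omega))
    nlinarith
  omega

end Cfsg.Agent.H5.EvenCyclic
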