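import Cfsg.Agent.H5.EvenCyclic.Basic
import Cfsg.Agent.H39.StronglyEmbedded
import Cfsg.Prelude.Def_Involutions

/-!
# An involution with a centraliser that is not a 2-group is determined by its centraliser

Otherwise the normaliser of that centraliser is strongly embedded, so that all involutions are
conjugate, and the mixed hypothesis fails.
-/

set_option autoImplicit false
set_option linter.unusedSectionVars false

namespace Cfsg.Agent.H5.EvenCyclic

open Subgroup

universe u

variable {G : Type u} [Group G] [Finite G]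

/-- The centraliser is not a 2-group and is shared with another involution. -/
def Big (a : G) : Prop :=
  orderOf a = 2 ∧ ¬ Two a ∧ ∃ b, orderOf b = 2 ∧ b ≠ a ∧ C b = C a

theorem Big.conj {a : G} (h : Big a) (g : G) : Big (g * a * g⁻¹) := by
  obtain ⟨ha, hn, b, hb, hne, hC⟩ := h
  exact ⟨by rw [H65.orderOf_conj']; exact ha, not_two_conj hn, g * b * g⁻¹,
    by rw [H65.orderOf_conj']; exact hb, fun e => hne (conj_injective (show MulAut.conj g b = MulAut.conj g a from e)),
    C_conj_congr hC g⟩
where
  conj_injective {g a b : G} (e : MulAut.conj g a = MulAut.conj g b) : a = b :=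
    (MulAut.conj g).injective e

variable (hP : Hyp G)

include hP

theorem Big.invol_cases {a w : G} (h : Big a) (hw : orderOf w = 2) (hc : Commute w a) :
    C w = C a ∨ Two w := by
  obtain ⟨ha, hn, b, hb, hne, hC⟩ := h
  by_contra hcon
  push Not at hcon
  obtain ⟨hne', hw2⟩ := hcon
  obtain ⟨y, hy, hyo, hy1⟩ := not_two_iff.1 hw2
  obtain ⟨x, hx, hxo, hx1⟩ := not_two_iff.1 hn
  have hwb : Commute w b := mem_C.1 (hC.symm ▸ mem_C.2 hc)
  have hab : Commute a b := mem_C.1 (hC.symm ▸ self_mem_C a)
  have h1 := hP.inverts hw ha hc.symm (fun e => hne' e.symm) hy hyo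
  have h2 := hP.inverts hw hb hwb.symm (fun e => hne' (by rw [← e, hC])) hy hyo
  have hab2 : orderOf (a * b) = 2 := H65.orderOf_mul_two ha hb hab (Ne.symm hne)
  have h3 : (a * b) * y * (a * b)⁻¹ = y := by
    rw [show a * b * y * (a * b)⁻¹ = a * (b * y * b⁻¹) * a⁻¹ by group, h2, ← conj_inv, h1, inv_inv]
  have hxb : Commute x b := mem_C.1 (hC.symm ▸ mem_C.2 hx)
  exact hne' ((hP.C_eq_of_common hw hab2 hyo hy1 hy (mul_inv_eq_iff_eq_mul.1 h3).symm).trans
    (hP.C_eq_of_common hab2 ha hxo hx1 (hx.mul_right hxb) hx))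

theorem Big.eq_of_commute {a b : G} (ha : Big a) (hb : Big b) (hc : Commute b a) : C b = C a :=
  (ha.invol_cases hP hb.1 hc).resolve_right hb.2.1

theorem Big.eq_of_two_power : ∀ (k : ℕ) {a b : G}, Big a → Big b → (a * b) ^ (2 ^ k) = 1 →
    C a = C b := by
  intro k
  induction k with
  | zero =>
    intro a b ha hb h
    rw [pow_zero, pow_one] at h
    rw [← H65.inv_eq_self hb.1, ← eq_inv_of_mul_eq_one_left h]
  | succ k ih =>
    intro a b ha hb h
    have hb' := H65.inv_eq_self hb.1
    have hc := ha.conj b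
    rw [hb'] at hc
    have hw : a * (b * a * b) = (a * b) ^ 2 := by rw [pow_two]; simp only [mul_assoc]
    have h1 : C a = C (b * a * b) := ih ha hc (by rw [hw, ← pow_mul, ← pow_succ']; exact h)
    have hcomm : Commute (b * a * b) a := mem_C.1 (h1.symm ▸ self_mem_C (b * a * b))
    refine (ha.eq_of_commute hP hb ?_).symm
    by_cases he : a = b * a * b
    · have := congrArg (fun z => b * z) he
      simp only [← mul_assoc, H65.mul_self_eq_one hb.1, one_mul] at this
      exact this
    · obtain ⟨x, hx, hxo, hx1⟩ := not_two_iff.1 ha.2.1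
      have hx' : Commute x (b * a * b) := mem_C.1 (h1 ▸ mem_C.2 hx)
      have hwo := H65.orderOf_mul_two ha.1 hc.1 hcomm.symm he
      have hwC : C (a * (b * a * b)) = C a :=
        hP.C_eq_of_common hwo ha.1 hxo hx1 (hx.mul_right hx') hx
      refine mem_C.1 (hwC ▸ mem_C.2 ?_)
      show b * (a * (b * a * b)) = a * (b * a * b) * b
      calc b * (a * (b * a * b)) = b * a * b * a * b := by simp only [mul_assoc]
        _ = a * (b * a * b) * b := by rw [hcomm.eq]

/-- An involution with a centraliser that is not a 2-group is determined by its centraliser. -/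
theorem eq_of_C_eq (hss : Nss G) (hmix : Mix G) {t u : G} (ht : orderOf t = 2) (hn : ¬ Two t)
    (hu : orderOf u = 2) (hC : C u = C t) : u = t := by
  classical
  haveI : Fact (Nat.Prime 2) := ⟨Nat.prime_two⟩
  by_contra hne
  have hbig : Big t := ⟨ht, hn, u, hu, hne, hC⟩
  set L := normalizer (C t : Set G) with hL
  have hle : ∀ v : G, orderOf v = 2 → v ∈ L → v ∈ C t := by
    intro v hv hvL
    have hv' := H65.inv_eq_self hv
    have hCt' := C_conj_of_mem_normalizer hvL
    have ht' : orderOf (v * t * v⁻¹) = 2 := (H65.orderOf_conj' v t).trans ht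
    rw [hv'] at ht' hCt'
    have hcomm : Commute (v * t * v) t := mem_C.1 (hCt' ▸ self_mem_C (v * t * v))
    by_cases he : t = v * t * v
    · refine mem_C.2 ?_
      have := congrArg (fun z => v * z) he
      simp only [← mul_assoc, H65.mul_self_eq_one hv, one_mul] at this
      exact this
    · have hwo := H65.orderOf_mul_two ht ht' hcomm.symm he
      obtain ⟨x, hx, hxo, hx1⟩ := not_two_iff.1 hn
      have hx' : Commute x (v * t * v) := mem_C.1 (hCt'.symm ▸ mem_C.2 hx)
      have hwC : C (t * (v * t * v)) = C t :=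
        hP.C_eq_of_common hwo ht hxo hx1 (hx.mul_right hx') hx
      refine hwC ▸ mem_C.2 ?_
      show v * (t * (v * t * v)) = t * (v * t * v) * v
      calc v * (t * (v * t * v)) = v * t * v * t * v := by simp only [mul_assoc]
        _ = t * (v * t * v) * v := by rw [hcomm.eq]
  have hSE : Cfsg.IsStronglyEmbedded L := by
    refine ⟨C_not_normal hss ht, ?_, fun g hg => ?_⟩
    · rw [even_iff_two_dvd, ← ht]
      exact orderOf_dvd_natCard L (le_normalizer (self_mem_C t))
    · by_contra ho
      rw [Nat.not_odd_iff_even] at ho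
      obtain ⟨v, hv⟩ := exists_prime_orderOf_dvd_card' 2 (even_iff_two_dvd.1 ho)
      rw [← Subgroup.orderOf_coe] at hv
      obtain ⟨hv1, z, hz, hze⟩ := mem_inf.1 v.2
      change g * z * g⁻¹ = (v : G) at hze
      have hvt : Commute (v : G) t := mem_C.1 (hle _ hv hv1)
      have hzt : Commute z t := mem_C.1 (hle z (by rw [← H65.orderOf_conj' g, hze]; exact hv) hz)
      have hvt' : Commute (v : G) (g * t * g⁻¹) := by
        have := hzt.map (MulAut.conj g).toMonoidHom
        simpa [← hze] using this
      have hb' := hbig.conj g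
      apply hg
      apply mem_normalizer_of_C_conj
      rcases hbig.invol_cases hP hv hvt with h | h
      · rcases hb'.invol_cases hP hv hvt' with h' | h'
        · rw [← h', h]
        · exact absurd h' fun h2 => by
            obtain ⟨x, hx, hxo, hx1⟩ := not_two_iff.1 hn
            exact hx1 (h2 x (mem_C.1 (h.symm ▸ mem_C.2 hx)) hxo)
      · obtain ⟨k, hk⟩ := isPGroup_of_two h ⟨t * (g * t * g⁻¹),
          mul_mem (mem_C.2 hvt.symm) (mem_C.2 hvt'.symm)⟩
        exact (Big.eq_of_two_power hP k hbig hb' (congrArg Subtype.val hk)).symm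
  obtain ⟨s, hs, hst, hne'⟩ := hmix t ht
  have hs2 : Two s := (hbig.invol_cases hP hs hst).resolve_left hne'
  obtain ⟨g, hg⟩ := isConj_iff.1 (H39.se_involutions_conj hSE ht hs)
  exact not_two_conj hn (hg.symm ▸ hs2)

end Cfsg.Agent.H5.EvenCyclic
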