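import Cfsg.Agent.H5.EvenCyclic.LemmaA
import Cfsg.Agent.H40.SupSolvable
import Cfsg.Agent.S0205

/-!
# Normal subgroups

Normal subgroups inherit the absence of solvable normal subgroups, no nontrivial element of odd
order centralises one of them, and a minimal one is simple with trivial centraliser.
-/

set_option autoImplicit false
set_option linter.unusedSectionVars false
set_option linter.style.haveILetI false

namespace Cfsg.Agent.H5.EvenCyclic

open Subgroup

universe u

variable {G : Type u} [Group G] [Finite G]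

theorem Nss.not_solvable [Nontrivial G] (hss : Nss G) : ¬ Group.IsSolvable G := by
  intro h
  haveI := h
  have h1 := hss ⊤ inferInstance inferInstance
  exact top_ne_bot h1

theorem exists_odd_of_not_solvable (h : ¬ Group.IsSolvable G) :
    ∃ x : G, Odd (orderOf x) ∧ x ≠ 1 := by
  by_contra hcon
  push Not at hcon
  apply h
  haveI : Fact (Nat.Prime 2) := ⟨Nat.prime_two⟩
  have hp : IsPGroup 2 G := fun x => by
    obtain ⟨k, m, hm, hkm⟩ := Nat.exists_eq_two_pow_mul_odd (orderOf_pos x).ne'
    refine ⟨k, hcon _ ?_⟩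
    rw [orderOf_pow' _ (by positivity), hkm, Nat.gcd_eq_right ⟨m, rfl⟩,
      Nat.mul_div_cancel_left _ (by positivity)]
    exact hm
  haveI := hp.isNilpotent
  infer_instance

theorem Nss.exists_two_invol [Nontrivial G] (hss : Nss G) :
    ∃ a b : G, orderOf a = 2 ∧ orderOf b = 2 ∧ a ≠ b := by
  haveI : Fact (Nat.Prime 2) := ⟨Nat.prime_two⟩
  have hev : 2 ∣ Nat.card G := by
    rw [← even_iff_two_dvd]
    exact Nat.not_odd_iff_even.1 fun h => hss.not_solvable (S0205.result h)
  obtain ⟨a, ha⟩ := exists_prime_orderOf_dvd_card' 2 hev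
  by_contra hcon
  push Not at hcon
  have hfix : ∀ g : G, Commute g a := fun g => mul_inv_eq_iff_eq_mul.1
    (hcon (g * a * g⁻¹) a (by rw [H65.orderOf_conj']; exact ha) ha)
  have hn : (zpowers a).Normal := ⟨fun n hn g => by
    obtain ⟨i, rfl⟩ := mem_zpowers_iff.1 hn
    rw [mul_inv_eq_iff_eq_mul.2 ((hfix g).zpow_right i).eq]
    exact hn⟩
  have := hss _ hn (Group.isSolvable_of_comm zpowers_comm)
  exact H65.ne_one_of_orderOf ha (zpowers_eq_bot.1 this)

theorem Nss.map_equiv {H : Type u} [Group H] (hss : Nss G) (e : G ≃* H) : Nss H := by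
  intro N hN hsol
  haveI := hsol
  have h1 := hss (N.comap e.toMonoidHom) inferInstance
    (Group.isSolvable_of_isSolvable_injective
      (f := (e.toMonoidHom.comp (N.comap e.toMonoidHom).subtype).codRestrict N (fun x => x.2))
      fun a b hab => Subtype.ext (e.injective (congrArg Subtype.val hab)))
  refine (eq_bot_iff_forall _).2 fun x hx => ?_
  have : e.symm x ∈ N.comap e.toMonoidHom := by
    show e (e.symm x) ∈ N
    rwa [e.apply_symm_apply]
  rw [h1, mem_bot] at this
  simpa using congrArg e this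

/-- Normal subgroups have no solvable normal subgroup either. -/
theorem Nss.of_normal (hss : Nss G) (T : Subgroup G) [hT : T.Normal] : Nss ↥T := by
  classical
  intro N hN hNs
  have hbot : Group.IsSolvable ↥(⊥ : Subgroup ↥T) :=
    Group.isSolvable_of_comm fun a b => Subsingleton.elim _ _
  obtain ⟨R, ⟨hRn, hRs⟩, hmax⟩ := Set.Finite.exists_maximal
    (s := {K : Subgroup ↥T | K.Normal ∧ Group.IsSolvable ↥K}) (Set.toFinite _)
    ⟨⊥, inferInstance, hbot⟩
  have htop : ∀ K : Subgroup ↥T, K.Normal → Group.IsSolvable ↥K → K ≤ R := by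
    intro K hK hKs
    haveI := hK
    haveI := hRn
    have hs := H40.isSolvable_sup
      (by rw [Subgroup.normalizer_eq_top]; exact le_top : K ≤ normalizer (R : Set ↥T)) hRs hKs
    exact le_trans le_sup_right (hmax ⟨inferInstance, hs⟩ le_sup_left)
  haveI := hRs
  haveI := hRn
  have hRn' : (R.map T.subtype).Normal := by
    refine ⟨fun n hn g => ?_⟩
    obtain ⟨r, hr, rfl⟩ := hn
    have h1 := htop (R.map (MulAut.conjNormal g : MulAut ↥T).toMonoidHom)
      (hRn.map _ (MulAut.conjNormal g : MulAut ↥T).surjective)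
      (Group.isSolvable_of_surjective
        (R.equivMapOfInjective _ (MulAut.conjNormal g : MulAut ↥T).injective).surjective
          (f := (R.equivMapOfInjective _ (MulAut.conjNormal g : MulAut ↥T).injective).toMonoidHom))
    refine ⟨MulAut.conjNormal g r, h1 ⟨r, hr, rfl⟩, ?_⟩
    simp
  have h2 := hss _ hRn' (Group.isSolvable_of_surjective
    (f := (R.equivMapOfInjective T.subtype Subtype.val_injective).toMonoidHom)
    (R.equivMapOfInjective T.subtype Subtype.val_injective).surjective)
  rw [Subgroup.map_eq_bot_iff_of_injective _ Subtype.val_injective] at h2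
  exact le_bot_iff.1 (h2 ▸ htop N hN hNs)

/-- No nontrivial element of odd order centralises a subgroup without solvable normal subgroups. -/
theorem no_centralise (hP : Hyp G) (hss : Nss G) (hmix : Mix G) {K : Subgroup G} [Nontrivial ↥K]
    (hK : Nss ↥K) {x : G} (hx : Odd (orderOf x)) (hx1 : x ≠ 1) (h : ∀ k ∈ K, Commute k x) :
    False := by
  obtain ⟨a, b, ha, hb, hne⟩ := hK.exists_two_invol
  rw [← orderOf_coe] at ha hb
  refine hne (Subtype.ext (eq_of_C_eq hP hss hmix hb ?_ ha
    (hP.C_eq_of_common ha hb hx hx1 (h a a.2).symm (h b b.2).symm)))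
  exact fun h2 => hx1 (h2 x (h b b.2).symm hx)

/-- A minimal normal subgroup is simple and has trivial centraliser. -/
theorem exists_simple_normal [Nontrivial G] (hP : Hyp G) (hss : Nss G) (hmix : Mix G) :
    ∃ T : Subgroup G, T.Normal ∧ T ≠ ⊥ ∧ IsSimpleGroup ↥T ∧ centralizer (T : Set G) = ⊥ := by
  classical
  obtain ⟨T, ⟨hTn, hT0⟩, hmin⟩ := Set.Finite.exists_minimal
    (s := {K : Subgroup G | K.Normal ∧ K ≠ ⊥}) (Set.toFinite _) ⟨⊤, inferInstance, top_ne_bot⟩
  haveI := hTn
  haveI : Nontrivial ↥T := (Subgroup.nontrivial_iff_ne_bot _).2 hT0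
  have hTss := hss.of_normal T
  refine ⟨T, hTn, hT0, ?_, ?_⟩
  swap
  · by_contra hC
    haveI : Nontrivial ↥(centralizer (T : Set G)) := (Subgroup.nontrivial_iff_ne_bot _).2 hC
    obtain ⟨x, hx, hx1⟩ := exists_odd_of_not_solvable hTss.not_solvable
    exact no_centralise hP hss hmix (hss.of_normal (centralizer (T : Set G)))
      (x := (x : G)) (by rwa [orderOf_coe]) (fun e => hx1 (Subtype.ext e))
      fun k hk => (mem_centralizer_iff.1 hk x x.2).symm
  refine ⟨fun N hN => or_iff_not_imp_left.2 fun hNb => ?_⟩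
  obtain ⟨T0, hle, ⟨hT0n, hT00⟩, hmin0⟩ := (Set.toFinite
    {K : Subgroup ↥T | K.Normal ∧ K ≠ ⊥}).exists_le_minimal (a := N) ⟨hN, hNb⟩
  haveI := hT0n
  haveI : Nontrivial ↥T0 := (Subgroup.nontrivial_iff_ne_bot _).2 hT00
  have hT0ss := hTss.of_normal T0
  obtain ⟨x0, hx0, hx01⟩ := exists_odd_of_not_solvable hT0ss.not_solvable
  have hnor : (T0.map T.subtype).Normal := by
    refine ⟨fun n hn g => ?_⟩
    obtain ⟨r, hr, rfl⟩ := hn
    set φ : MulAut ↥T := MulAut.conjNormal g with hφ
    set T1 := T0.map φ.toMonoidHom with hT1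
    haveI hT1n : T1.Normal := hT0n.map _ φ.surjective
    by_cases hsame : T0 ≤ T1
    · have heq : T0 = T1 := eq_of_le_of_card_ge hsame (card_map_of_injective φ.injective).le
      refine ⟨φ r, heq.symm ▸ ⟨r, hr, rfl⟩, ?_⟩
      simp [hφ]
    · exfalso
      have hint : T0 ⊓ T1 = ⊥ := by
        by_contra hne
        exact hsame ((hmin0 ⟨inferInstance, hne⟩ inf_le_left).trans inf_le_right)
      let e : ↥T0 ≃* ↥(T0.map T.subtype) := T0.equivMapOfInjective _ Subtype.val_injective
      haveI : Nontrivial ↥(T0.map T.subtype) := e.toEquiv.symm.nontrivial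
      refine no_centralise hP hss hmix (hT0ss.map_equiv e) (x := (φ (x0 : ↥T) : ↥T))
        ?_ ?_ ?_
      · rw [orderOf_coe, MulEquiv.orderOf_eq, orderOf_coe]; exact hx0
      · intro e1
        exact hx01 (Subtype.ext (φ.injective ((Subtype.ext e1).trans (map_one φ).symm)))
      · rintro _ ⟨k, hk, rfl⟩
        exact congrArg Subtype.val ((Subgroup.commute_of_normal_of_disjoint T0 T1 hT0n hT1n
          (disjoint_iff.2 hint) k (φ (x0 : ↥T)) hk ⟨_, x0.2, rfl⟩).eq)
  have hsame := hmin ⟨hnor, fun e => hT00 ((Subgroup.map_eq_bot_iff_of_injective _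
    Subtype.val_injective).1 e)⟩ (map_subtype_le T0)
  refine (eq_top_iff' _).2 fun y => hle ?_
  obtain ⟨z, hz, hzy⟩ := hsame y.2
  exact Subtype.val_injective hzy ▸ hz

end Cfsg.Agent.H5.EvenCyclic
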