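import Cfsg.Agent.H5.EvenCyclic.Sylow
import Cfsg.Agent.H5.EvenCyclic.NormalSub
import Cfsg.Agent.S0508
import Cfsg.Agent.S0204
import Cfsg.Agent.Cores.PCore
import Cfsg.Agent.PGroups.TwoGroups

/-!
# The simple normal subgroup is `PSL(2, q)` with `q` odd
-/

set_option autoImplicit false
set_option linter.unusedSectionVars false
set_option linter.style.haveILetI false

namespace Cfsg.Agent.H5.EvenCyclic

open Subgroup

universe u

variable {G : Type u} [Group G] [Finite G]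

theorem DihLike.conj {S : Subgroup G} (h : DihLike S) (g : G) :
    DihLike (S.map (MulAut.conj g).toMonoidHom) := by
  obtain ⟨c, a, hc, ha, ha2, hac, hinv, hall⟩ := h
  set φ := (MulAut.conj g).toMonoidHom with hφ
  have hinj : Function.Injective φ := (MulAut.conj g).injective
  have hz : ∀ y, φ y ∈ zpowers (φ c) ↔ y ∈ zpowers c := fun y => by
    rw [← MonoidHom.map_zpowers]; exact mem_map_iff_mem hinj
  refine ⟨φ c, φ a, ⟨c, hc, rfl⟩, ⟨a, ha, rfl⟩, by rw [orderOf_injective φ hinj]; exact ha2,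
    fun e => hac ((hz a).1 e), by rw [← map_inv, ← map_inv, ← map_mul, ← map_mul, hinv], ?_⟩
  rintro _ ⟨y, hy, rfl⟩
  rw [← map_mul, hz, hz]
  exact hall y hy

theorem DihLike.of_sylow {S S' : Sylow 2 G} (h : DihLike (S : Subgroup G)) :
    DihLike (S' : Subgroup G) := by
  haveI : Fact (Nat.Prime 2) := ⟨Nat.prime_two⟩
  obtain ⟨g, rfl⟩ := MulAction.exists_smul_eq G S S'
  exact h.conj g

theorem socle_psl (hP : Hyp G) (hss : Nss G) (hmix : Mix G) {S : Sylow 2 G}
    (hS : DihLike (S : Subgroup G)) (T : Subgroup G) [T.Normal] [IsSimpleGroup ↥T]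
    (hTc : ¬ IsCyclic ↥T) :
    ∃ (F : Type) (_ : Field F) (_ : Fintype F), Odd (Fintype.card F) ∧
      Nonempty (↥T ≃* Matrix.ProjectiveSpecialLinearGroup (Fin 2) F) := by
  classical
  haveI : Fact (Nat.Prime 2) := ⟨Nat.prime_two⟩
  obtain ⟨E, hE⟩ := S0204.result hTc
  have hE2 : IsPGroup 2 ↥E := IsPGroup.of_card (n := 2) hE.card_four
  obtain ⟨Q, hEQ⟩ := hE2.exists_le_sylow
  obtain ⟨S', hS'⟩ := (Q.2.map T.subtype).exists_le_sylow
  obtain ⟨c, a, hc, ha, ha2, hac, hinv, hall⟩ := DihLike.of_sylow (S' := S') hS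
  have hQS : ∀ q ∈ (Q : Subgroup ↥T), (q : G) ∈ zpowers c ∨ a * (q : G) ∈ zpowers c :=
    fun q hq => hall _ (hS' ⟨q, hq, rfl⟩)
  -- the element outside the cyclic group
  obtain ⟨e₁, e₂, he₁, he₂, he12⟩ : ∃ e₁ e₂ : ↥T, (e₁ ∈ Q ∧ orderOf e₁ = 2) ∧
      (e₂ ∈ Q ∧ orderOf e₂ = 2) ∧ True ∧ e₁ ≠ e₂ := by
    have h4 : Nat.card ↥E = 4 := hE.card_four
    haveI := Fintype.ofFinite ↥E
    rw [Nat.card_eq_fintype_card] at h4
    have ho : ∀ e : ↥E, e ≠ 1 → orderOf (e : ↥T) = 2 := fun e he => by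
      rw [orderOf_coe]
      exact orderOf_eq_prime (by rw [← hE.exponent_two]; exact Monoid.pow_exponent_eq_one e) he
    obtain ⟨e₁, h₁⟩ := Fintype.exists_ne_of_one_lt_card (by omega) (1 : ↥E)
    obtain ⟨e₂, -, h₂⟩ := Finset.exists_mem_notMem_of_card_lt_card (s := {1, e₁})
      (t := (Finset.univ : Finset ↥E)) (lt_of_le_of_lt Finset.card_le_two (by rw [Finset.card_univ, h4]; norm_num))
    simp only [Finset.mem_insert, Finset.mem_singleton, not_or] at h₂
    exact ⟨e₁, e₂, ⟨hEQ e₁.2, ho e₁ h₁⟩, ⟨hEQ e₂.2, ho e₂ h₂.1⟩, trivial,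
      fun h => h₂.2 (Subtype.ext h.symm)⟩
  obtain ⟨y, hyQ, hy2, hyc⟩ : ∃ y : ↥T, y ∈ Q ∧ orderOf y = 2 ∧ (y : G) ∉ zpowers c := by
    by_contra hcon
    push Not at hcon
    exact he12.2 (Subtype.ext (invol_zpowers_unique (by rw [orderOf_coe]; exact he₁.2)
      (by rw [orderOf_coe]; exact he₂.2) (hcon e₁ he₁.1 he₁.2) (hcon e₂ he₂.1 he₂.2)))
  have hay := (hQS y hyQ).resolve_left hyc
  have hflip : ∀ w ∈ zpowers c, (y : G) * w * (y : G)⁻¹ = w⁻¹ := by
    intro w hw
    obtain ⟨i, rfl⟩ := mem_zpowers_iff.1 hw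
    obtain ⟨j, hj⟩ := mem_zpowers_iff.1 hay
    have hy' : (y : G) = a * c ^ j := by
      rw [hj, ← mul_assoc, H65.mul_self_eq_one ha2, one_mul]
    rw [hy', show a * c ^ j * c ^ i * (a * c ^ j)⁻¹ = a * c ^ i * a⁻¹ by group, ← conj_zpow, hinv,
      inv_zpow]
  set K : Subgroup ↥(Q : Subgroup ↥T) :=
    (zpowers c).comap (T.subtype.comp (Q : Subgroup ↥T).subtype) with hK
  haveI : IsCyclic ↥K := isCyclic_of_injective
    ((T.subtype.comp (Q : Subgroup ↥T).subtype).subgroupComap (zpowers c))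
    fun p q h => Subtype.ext (Subtype.ext (Subtype.ext (congrArg (fun w : ↥(zpowers c) => (w : G)) h)))
  obtain ⟨k, hk⟩ := (Subgroup.isCyclic_iff_exists_zpowers_eq_top K).1 inferInstance
  have hmemK : ∀ q : ↥(Q : Subgroup ↥T), q ∈ zpowers k ↔ ((q : ↥T) : G) ∈ zpowers c :=
    fun q => by rw [hk]; rfl
  set yQ : ↥(Q : Subgroup ↥T) := ⟨y, hyQ⟩ with hyQdef
  have hyi : (y : G)⁻¹ = y := H65.inv_eq_self (by rw [orderOf_coe]; exact hy2)
  have hyk : yQ ∉ zpowers k := fun h => hyc ((hmemK yQ).1 h)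
  have hconj : yQ * k * yQ⁻¹ = k⁻¹ := Subtype.ext (Subtype.ext
    (hflip _ ((hmemK k).1 (mem_zpowers k))))
  have hidx : (zpowers k).index = 2 := by
    rw [Subgroup.index_eq_two_iff]
    refine ⟨yQ, fun q => ?_⟩
    have hq : ∀ w : G, a * w ∈ zpowers c → w * (y : G) ∈ zpowers c := by
      intro w hw
      obtain ⟨i, hi⟩ := mem_zpowers_iff.1 hw
      obtain ⟨j, hj⟩ := mem_zpowers_iff.1 hay
      have hw' : w = a * c ^ i := by rw [hi, ← mul_assoc, H65.mul_self_eq_one ha2, one_mul]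
      have hy' : (y : G) = a * c ^ j := by
        rw [hj, ← mul_assoc, H65.mul_self_eq_one ha2, one_mul]
      rw [hw', hy', show a * c ^ i * (a * c ^ j) = a * c ^ i * a * c ^ j by simp only [mul_assoc]]
      refine mul_mem ?_ (zpow_mem (mem_zpowers c) j)
      have he : a * c ^ i * a = a * c ^ i * a⁻¹ := by rw [H65.inv_eq_self ha2]
      rw [he, ← conj_zpow, hinv]
      exact zpow_mem (inv_mem (mem_zpowers c)) i
    rcases hQS q q.2 with h | h
    · refine Or.inr ⟨(hmemK q).2 h, fun h' => hyk ?_⟩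
      exact (Subgroup.mul_mem_cancel_left _ ((hmemK q).2 h)).1 h'
    · refine Or.inl ⟨(hmemK _).2 (hq _ h), fun h' => hyk ?_⟩
      exact (Subgroup.mul_mem_cancel_left _ h').1 ((hmemK _).2 (hq _ h))
  set n := orderOf k with hn
  haveI : NeZero n := ⟨(orderOf_pos k).ne'⟩
  have hcard : Nat.card ↥(Q : Subgroup ↥T) = 2 * n := by
    rw [← Subgroup.index_mul_card (zpowers k), hidx, Nat.card_zpowers]
  have hn2 : 2 ≤ n := by
    by_contra hlt
    have hk1 : n = 1 := by have := orderOf_pos k; omega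
    rw [hk1] at hcard
    haveI := Fintype.ofFinite ↥(Q : Subgroup ↥T)
    rw [Nat.card_eq_fintype_card] at hcard
    have h3 : 2 < Fintype.card ↥(Q : Subgroup ↥T) := Fintype.two_lt_card_iff.2
      ⟨1, ⟨e₁, he₁.1⟩, ⟨e₂, he₂.1⟩,
        fun h => H65.ne_one_of_orderOf he₁.2 (congrArg Subtype.val h).symm,
        fun h => H65.ne_one_of_orderOf he₂.2 (congrArg Subtype.val h).symm,
        fun h => he12.2 (congrArg Subtype.val h)⟩
    omega
  have hiso : Nonempty (↥(Q : Subgroup ↥T) ≃* DihedralGroup n) :=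
    PGroups.nonempty_mulEquiv_dihedral hn.symm hyk
      (Subtype.ext (by rw [SubmonoidClass.coe_pow, pow_two, coe_one]; exact H65.mul_self_eq_one hy2))
      hconj hcard
  have heven : Even (orderOf k) := by
    obtain ⟨j, hj⟩ := Q.2 k
    obtain ⟨i, -, hi⟩ := (Nat.dvd_prime_pow Nat.prime_two).1 (orderOf_dvd_of_pow_eq_one hj)
    rw [hi]
    refine Nat.even_pow.2 ⟨even_two, fun h0 => ?_⟩
    rw [hn, hi, h0] at hn2
    omega
  set tQ := k ^ (orderOf k / 2) with htQ
  have htQo : orderOf tQ = 2 := orderOf_half (orderOf_pos k).ne' heven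
  have htQk : tQ ∈ zpowers k := npow_mem_zpowers k _
  set t : ↥T := (tQ : ↥T) with htdef
  have htT : orderOf t = 2 := by rw [htdef, orderOf_coe]; exact htQo
  have htG : orderOf (t : G) = 2 := by rw [orderOf_coe]; exact htT
  have hyt : yQ * tQ * yQ⁻¹ = tQ := by
    rw [htQ, ← conj_pow, hconj, inv_pow, H65.inv_eq_self htQo]
  have hcenQ : ∀ q : ↥(Q : Subgroup ↥T), Commute q tQ := by
    intro q
    have hyc' : Commute yQ tQ := mul_inv_eq_iff_eq_mul.1 hyt
    have hzp : ∀ w ∈ zpowers k, Commute w tQ := fun w hw => by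
      obtain ⟨i, rfl⟩ := mem_zpowers_iff.1 hw
      exact ((Commute.refl k).zpow_left i).pow_right _
    obtain ⟨z, hz⟩ := Subgroup.index_eq_two_iff.1 hidx
    by_cases hq : q ∈ zpowers k
    · exact hzp q hq
    · have hyq : q * yQ ∈ zpowers k := (Subgroup.mul_mem_iff_of_index_two hidx).2
        ⟨fun h => absurd h hq, fun h => absurd h hyk⟩
      have := (hzp _ hyq).mul_left hyc'.inv_left
      rwa [mul_inv_cancel_right] at this
  set C' := centralizer ({t} : Set ↥T) with hC'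
  set O := (Cfsg.oddCore C').map C'.subtype with hO
  have hmemO : ∀ x : ↥T, x ∈ O ↔ Commute (x : G) (t : G) ∧ Odd (orderOf (x : G)) := by
    intro x
    constructor
    · rintro ⟨z, hz, rfl⟩
      refine ⟨congrArg Subtype.val (mem_C.1 z.2).eq, ?_⟩
      rw [orderOf_coe, coe_subtype, orderOf_coe]
      exact Cores.odd_card_oddCore.of_dvd_nat (orderOf_dvd_natCard _ hz)
    · rintro ⟨hxt, hxo⟩
      have hx' : x ∈ C' := mem_C.2 (Subtype.ext hxt.eq)
      refine ⟨⟨x, hx'⟩, ?_, rfl⟩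
      set x' : ↥C' := ⟨x, hx'⟩
      haveI : (zpowers x').Normal := by
        refine ⟨fun w hw g => ?_⟩
        obtain ⟨i, rfl⟩ := mem_zpowers_iff.1 hw
        obtain ⟨l, hl⟩ := mem_zpowers_iff.1 (hP.conj_mem htG hxo hxt
          (g := ((g : ↥T) : G)) (congrArg Subtype.val (mem_C.1 g.2).eq))
        rw [← conj_zpow]
        refine zpow_mem ?_ i
        refine ⟨l, Subtype.ext (Subtype.ext ?_)⟩
        simpa using hl
      refine Cores.le_oddCore ?_ (mem_zpowers x')
      rw [Nat.card_zpowers, ← orderOf_coe, ← orderOf_coe]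
      exact hxo
  have hcent : ∀ q : ↥T, q ∈ centralizer (O : Set ↥T) ↔ ∀ x ∈ O, Commute (q : G) (x : G) := fun q =>
    ⟨fun h x hx => congrArg Subtype.val (mem_centralizer_iff.1 h x hx).symm,
      fun h => mem_centralizer_iff.2 fun x hx => Subtype.ext (h x hx).symm.eq⟩
  have htQS : t ∈ (Q : Subgroup ↥T) := tQ.2
  have hqt : ∀ q ∈ (Q : Subgroup ↥T), Commute (q : G) (t : G) := fun q hq =>
    congrArg (fun w : ↥(Q : Subgroup ↥T) => ((w : ↥T) : G)) (hcenQ ⟨q, hq⟩).eq
  have hodd2 : ∀ x ∈ O, x ≠ 1 → Odd2 G (t : G) := fun x hx hx1 => ⟨hP, hss, hmix, htG, fun h2 =>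
    hx1 (Subtype.ext (h2 _ ((hmemO x).1 hx).1 ((hmemO x).1 hx).2))⟩
  have hpow : ∀ q ∈ (Q : Subgroup ↥T), ∃ j : ℕ, (q : G) ^ (2 ^ j) = 1 := fun q hq => by
    obtain ⟨j, hj⟩ := mem_pow_two Q.2 hq
    exact ⟨j, by rw [← SubmonoidClass.coe_pow, hj, coe_one]⟩
  refine S0508.result Q n hn2 hiso t htT htQS
    (fun s hs => congrArg Subtype.val (hcenQ ⟨s, hs⟩).eq) O hO ?_ ?_ ?_
  · intro hO1
    obtain ⟨x₀, hx₀, hx₀1⟩ := O.bot_or_exists_ne_one.resolve_left hO1
    have H := hodd2 x₀ hx₀ hx₀1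
    have hcn : ∀ q : ↥(Q : Subgroup ↥T),
        (q : ↥T) ∈ centralizer (O : Set ↥T) ↔ q ∈ zpowers k := by
      intro q
      obtain ⟨j, hj⟩ := hpow q q.2
      constructor
      · intro hq
        by_contra hqk
        have hyq : q * yQ ∈ zpowers k := (Subgroup.mul_mem_iff_of_index_two hidx).2
          ⟨fun h => absurd h hqk, fun h => absurd h hyk⟩
        rcases H.cn_or_inv hj (hqt q q.2) with h | ⟨-, h⟩
        · have hqy2 : ∀ x ∈ O, Commute ((y : G)) (x : G) := by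
            intro x hx
            obtain ⟨l, hl⟩ := mem_zpowers_iff.1 hyq
            have hkcn : ∀ x ∈ O, Commute ((k : ↥T) : G) (x : G) := fun x hx => by
              obtain ⟨jk, hjk⟩ := hpow (k : ↥T) k.2
              refine H.cn_of_t_mem hjk ?_ _ ((hmemO x).1 hx).1 ((hmemO x).1 hx).2
              have : tQ ∈ zpowers k := htQk
              obtain ⟨i, hi⟩ := mem_zpowers_iff.1 this
              exact mem_zpowers_iff.2 ⟨i, by rw [htdef, ← hi]; simp⟩
            have e : (y : G) = (q : G)⁻¹ * (((k : ↥T) : G)) ^ l := by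
              have := congrArg (fun w : ↥(Q : Subgroup ↥T) => ((w : ↥T) : G)) hl
              simp only [SubgroupClass.coe_zpow, coe_mul] at this
              rw [this, inv_mul_cancel_left]
            rw [e]
            exact ((h _ ((hmemO x).1 hx).1 ((hmemO x).1 hx).2).inv_left).mul_left
              ((hkcn x hx).zpow_left l)
          have hyG : orderOf (y : G) = 2 := by rw [orderOf_coe]; exact hy2
          have hne : (y : G) ≠ (t : G) := fun e => hyk (by
            have : yQ = tQ := Subtype.ext (Subtype.ext e)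
            rw [this]; exact htQk)
          have hI := H.inv_of_ne hyG (hqt y hyQ) hne
          have h1 := hI _ ((hmemO x₀).1 hx₀).1 ((hmemO x₀).1 hx₀).2
          rw [mul_inv_eq_iff_eq_mul.2 (hqy2 x₀ hx₀).eq] at h1
          exact hx₀1 (Subtype.ext (odd_pow_two ((hmemO x₀).1 hx₀).2 (k := 1)
            (by rw [pow_one, pow_two]; exact mul_eq_one_iff_eq_inv.2 h1)))
        · have h1 := h _ ((hmemO x₀).1 hx₀).1 ((hmemO x₀).1 hx₀).2
          rw [mul_inv_eq_iff_eq_mul.2 ((hcent _).1 hq x₀ hx₀).eq] at h1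
          exact hx₀1 (Subtype.ext (odd_pow_two ((hmemO x₀).1 hx₀).2 (k := 1)
            (by rw [pow_one, pow_two]; exact mul_eq_one_iff_eq_inv.2 h1)))
      · intro hq
        obtain ⟨i, rfl⟩ := mem_zpowers_iff.1 hq
        rw [SubgroupClass.coe_zpow]
        refine zpow_mem ((hcent _).2 fun x hx => ?_) i
        obtain ⟨jk, hjk⟩ := hpow (k : ↥T) k.2
        refine H.cn_of_t_mem hjk ?_ _ ((hmemO x).1 hx).1 ((hmemO x).1 hx).2
        obtain ⟨i, hi⟩ := mem_zpowers_iff.1 htQk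
        exact mem_zpowers_iff.2 ⟨i, by rw [htdef, ← hi]; simp⟩
    have hsub : ((Q : Subgroup ↥T) ⊓ centralizer (O : Set ↥T)) =
        (zpowers k).map (Q : Subgroup ↥T).subtype := by
      ext q
      constructor
      · intro hq
        exact ⟨⟨q, hq.1⟩, (hcn ⟨q, hq.1⟩).1 hq.2, rfl⟩
      · rintro ⟨w, hw, rfl⟩
        exact ⟨w.2, (hcn w).2 hw⟩
    rw [hsub]
    refine ⟨?_, ?_⟩
    · rw [MonoidHom.map_zpowers]; infer_instance
    · rw [Subgroup.relIndex, Subgroup.subgroupOf,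
        Subgroup.comap_map_eq_self_of_injective Subtype.val_injective]
      exact hidx
  · intro s hs hns x hx
    by_cases hx1 : x = 1
    · subst hx1; simp
    obtain ⟨j, hj⟩ := hpow s hs
    rcases (hodd2 x hx hx1).cn_or_inv hj (hqt s hs) with h | ⟨-, h⟩
    · exact absurd ((hcent s).2 fun x hx => h _ ((hmemO x).1 hx).1 ((hmemO x).1 hx).2) hns
    · exact Subtype.ext (h _ ((hmemO x).1 hx).1 ((hmemO x).1 hx).2)
  · intro Y hY hY1 g hg
    obtain ⟨x, hx, hx1⟩ := Y.bot_or_exists_ne_one.resolve_left hY1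
    have hx' := (hmemO x).1 (hY hx)
    have hgx := (hmemO _).1 (hY ((mem_normalizer_iff''.1 hg x).1 hx))
    have hgx' : Commute (x : G) ((g : G) * t * (g : G)⁻¹) := by
      have := hgx.1.map (MulAut.conj (g : G)).toMonoidHom
      simpa [mul_assoc] using this
    have hto : orderOf ((g : G) * t * (g : G)⁻¹) = 2 := by rw [H65.orderOf_conj']; exact htG
    have hx1' : (x : G) ≠ 1 := fun e => hx1 (Subtype.ext e)
    have H := hodd2 x (hY hx) hx1
    have e := eq_of_C_eq hP hss hmix htG H.hn hto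
      (hP.C_eq_of_common hto htG hx'.2 hx1' hgx' hx'.1)
    exact mem_C.2 (Subtype.ext (mul_inv_eq_iff_eq_mul.1 e))

end Cfsg.Agent.H5.EvenCyclic
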