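import Cfsg.Agent.H5.EvenCyclic.LemmaB
import Cfsg.Agent.H65.AbInv.Main
import Cfsg.Agent.S3224

/-!
# The Sylow 2-subgroups are dihedral

If some involution has a centraliser that is not a 2-group, a Sylow 2-subgroup consists of a
cyclic group and a coset of inverting involutions.
-/

set_option autoImplicit false
set_option linter.unusedSectionVars false
set_option linter.style.haveILetI false

namespace Cfsg.Agent.H5.EvenCyclic

open Subgroup

universe u

variable {G : Type u} [Group G] [Finite G]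

/-- A cyclic group together with a coset of inverting involutions. -/
def DihLike (S : Subgroup G) : Prop :=
  ∃ c a : G, c ∈ S ∧ a ∈ S ∧ orderOf a = 2 ∧ a ∉ zpowers c ∧ a * c * a⁻¹ = c⁻¹ ∧
    ∀ g ∈ S, g ∈ zpowers c ∨ a * g ∈ zpowers c

theorem exists_normalizing {P : Subgroup G} {S : Sylow 2 G} (hle : P ≤ S) (hne : P ≠ S) :
    ∃ g ∈ (S : Subgroup G), g ∉ P ∧ g ∈ normalizer (P : Set G) := by
  haveI : Fact (Nat.Prime 2) := ⟨Nat.prime_two⟩
  haveI : Group.IsNilpotent ↥(S : Subgroup G) := S.2.isNilpotent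
  have hlt : P.subgroupOf (S : Subgroup G) < ⊤ := by
    rw [lt_top_iff_ne_top]
    exact fun h => hne (le_antisymm hle fun g hg => by
      have : (⟨g, hg⟩ : ↥(S : Subgroup G)) ∈ P.subgroupOf (S : Subgroup G) := h ▸ mem_top _
      exact this)
  obtain ⟨g, hg, hgP⟩ := SetLike.exists_of_lt (Group.normalizerCondition_of_isNilpotent _ hlt)
  refine ⟨g, g.2, hgP, mem_normalizer_iff.2 fun y => ⟨fun hy => ?_, fun hy => ?_⟩⟩
  · exact (mem_normalizer_iff.1 hg ⟨y, hle hy⟩).1 hy
  · have hyS : (g : G) * y * (g : G)⁻¹ ∈ (S : Subgroup G) := hle hy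
    have hy' : y ∈ (S : Subgroup G) := by
      have := mul_mem (mul_mem (inv_mem g.2) hyS) g.2
      simpa [mul_assoc] using this
    exact (mem_normalizer_iff.1 hg ⟨y, hy'⟩).2 hy

/-- A semidihedral group has no place. -/
theorem not_semidihedral (hP : Hyp G) {S : Subgroup G} (h : Cfsg.IsQuasiDihedral ↥S) : False := by
  obtain ⟨n, hn, -, x', y', hx, hy, hrel⟩ := h
  set m := 2 ^ (n - 1) with hm
  set x : G := (x' : G) with hxdef
  set y : G := (y' : G) with hydef
  have hxo : orderOf x = 2 ^ n := by rw [hxdef, orderOf_coe, hx]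
  have hyo : orderOf y = 2 := by rw [hydef, orderOf_coe, hy]
  have hr : y * x * y⁻¹ = x ^ (m - 1) := by
    have := congrArg Subtype.val hrel
    simpa using this
  have hm4 : 4 ≤ m := by
    calc 4 = 2 ^ 2 := rfl
      _ ≤ m := Nat.pow_le_pow_right (by norm_num) (by omega)
  have h2m : 2 ^ n = 2 * m := by rw [hm, ← pow_succ']; congr 1; omega
  set z := x ^ m with hz
  have hzo : orderOf z = 2 := by
    rw [hz, orderOf_pow' _ (by omega), hxo, h2m, Nat.gcd_eq_right ⟨2, by ring⟩,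
      Nat.mul_div_cancel _ (by omega)]
  have hyi := H65.inv_eq_self hyo
  have hsq : (x * y) * (x * y) = z := by
    calc (x * y) * (x * y) = x * (y * x * y⁻¹) := by rw [hyi]; simp only [mul_assoc]
      _ = x ^ m := by rw [hr, ← pow_succ', show m - 1 + 1 = m by omega]
  have ho := orderOf_eq_four hzo hsq
  have hxz : x ∈ C z := mem_C.2 (Commute.self_pow x m)
  have hmem : x * (x * y) * x⁻¹ ∈ zpowers (x * y) := by
    rw [← mem_normalizer_zpowers, hP.norm_self hzo (hsq ▸ mul_mem (mem_zpowers _) (mem_zpowers _))]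
    exact hxz
  have hconj : x * (x * y) * x⁻¹ = x ^ 2 * (x ^ (m - 1))⁻¹ * y := by
    rw [← hr, pow_two]; group
  rcases order_four_cases ho (by rw [H65.orderOf_conj']; exact ho) hmem with h | h
  · rw [hconj] at h
    have h' : x ^ 2 * (x ^ (m - 1))⁻¹ = x := mul_right_cancel h
    have h2 : x ^ 2 = x ^ m := by
      rw [mul_inv_eq_iff_eq_mul, ← pow_succ', show m - 1 + 1 = m by omega] at h'
      exact h'
    have := pow_injOn_Iio_orderOf (by rw [Set.mem_Iio, hxo]; omega)
      (by rw [Set.mem_Iio, hxo]; omega) h2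
    omega
  · have hinv : (x * y)⁻¹ = z * (x * y) := inv_eq_of_mul_eq_one_left (by
      rw [mul_assoc, hsq, H65.mul_self_eq_one hzo])
    rw [hinv, hconj, hz, ← mul_assoc, ← pow_succ] at h
    have h' : x ^ 2 * (x ^ (m - 1))⁻¹ = x ^ (m + 1) := mul_right_cancel h
    rw [mul_inv_eq_iff_eq_mul, ← pow_add, show m + 1 + (m - 1) = 2 ^ n by omega,
      ← hxo, pow_orderOf_eq_one] at h'
    have := orderOf_dvd_of_pow_eq_one h'
    have := Nat.le_of_dvd (by norm_num) this
    omega

namespace Odd2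

variable {t : G} (H : Odd2 G t)

include H

theorem exists_sylow : ∃ S : Sylow 2 G, DihLike (S : Subgroup G) := by
  classical
  haveI : Fact (Nat.Prime 2) := ⟨Nat.prime_two⟩
  obtain ⟨s, hs, hst, hsne⟩ := H.hmix t H.ht
  have hsnet : s ≠ t := fun e => hsne (e ▸ rfl)
  have hsinv := H.inv_of_ne hs hst hsnet
  -- a maximal 2-subgroup of `C t` containing `s` and `t`
  have hs2 : IsPGroup 2 (zpowers (⟨s, mem_C.2 hst⟩ : C t)) :=
    IsPGroup.of_card (n := 1) (by rw [Nat.card_zpowers, ← orderOf_coe, pow_one]; exact hs)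
  have ht2 : IsPGroup 2 (zpowers (⟨t, self_mem_C t⟩ : C t)) :=
    IsPGroup.of_card (n := 1) (by rw [Nat.card_zpowers, ← orderOf_coe, pow_one]; exact H.ht)
  haveI hnor : (zpowers (⟨t, self_mem_C t⟩ : C t)).Normal := ⟨fun n hn g => by
    obtain ⟨i, rfl⟩ := mem_zpowers_iff.1 hn
    have : Commute g (⟨t, self_mem_C t⟩ : C t) := Subtype.ext (mem_C.1 g.2).eq
    rw [mul_inv_eq_iff_eq_mul.2 (this.zpow_right i).eq]
    exact hn⟩
  obtain ⟨P, hPle⟩ := (hs2.to_sup_of_normal_right ht2).exists_le_sylow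
  set Q := (P : Subgroup (C t)).map (C t).subtype with hQdef
  have hQ2 : IsPGroup 2 ↥Q := P.2.map _
  have hQC : Q ≤ C t := fun g hg => by
    obtain ⟨z, -, rfl⟩ := hg
    exact z.2
  have hsQ : s ∈ Q := ⟨_, hPle (mem_sup_left (mem_zpowers _)), rfl⟩
  have htQ : t ∈ Q := ⟨_, hPle (mem_sup_right (mem_zpowers _)), rfl⟩
  obtain ⟨S, hQS⟩ := hQ2.exists_le_sylow
  have hSC : ∀ g ∈ (S : Subgroup G), Commute g t → g ∈ Q := by
    intro g hg hgt
    have hK : IsPGroup 2 ↥((S : Subgroup G).subgroupOf (C t)) :=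
      S.2.comap_of_injective _ Subtype.val_injective
    have hPK : (P : Subgroup (C t)) ≤ (S : Subgroup G).subgroupOf (C t) := fun z hz =>
      hQS ⟨z, hz, rfl⟩
    have := P.3 hK hPK
    exact ⟨⟨g, mem_C.2 hgt⟩, this ▸ (show (⟨g, mem_C.2 hgt⟩ : C t) ∈ _ from hg), rfl⟩
  -- the centralising part
  let D : Subgroup G :=
    { carrier := {y | y ∈ Q ∧ Cn t y}
      one_mem' := ⟨one_mem Q, H.cn_one⟩
      mul_mem' := fun {a b} ha hb => ⟨mul_mem ha.1 hb.1, H.cn_mul ha.2 hb.2⟩
      inv_mem' := fun {a} ha => ⟨inv_mem ha.1, H.cn_inv' ha.2⟩ }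
  have hDQ : D ≤ Q := fun y hy => hy.1
  have dich : ∀ y ∈ Q, y ∈ D ∨ (orderOf y = 2 ∧ s * y ∈ D) := by
    intro y hy
    obtain ⟨k, hk⟩ := mem_pow_two hQ2 hy
    rcases H.cn_or_inv hk (mem_C.1 (hQC hy)) with h | ⟨h, hi⟩
    · exact Or.inl ⟨hy, h⟩
    · exact Or.inr ⟨h, mul_mem hsQ hy, H.cn_mul_inv_inv hsinv hi⟩
  have hsD : s ∉ D := fun h => H.not_cn_inv h.2 hsinv
  have flip : ∀ e ∈ D, s * e * s⁻¹ = e⁻¹ := by
    intro e he
    rcases dich _ (mul_mem hsQ he.1) with h | ⟨h, -⟩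
    · exact absurd (by simpa using mul_mem h (inv_mem he) : s ∈ D) hsD
    · rw [H65.inv_eq_self hs]
      exact eq_inv_of_mul_eq_one_left (by
        rw [← H65.mul_self_eq_one h]; simp only [mul_assoc])
  have hcyc : IsCyclic ↥D := by
    refine H65.AbInv.cyclic_of_unique_invol (hQ2.to_le hDQ) ?_ ?_
    · intro a b
      apply Subtype.ext
      have h := flip _ (mul_mem a.2 b.2)
      rw [← conj_mul, flip a a.2, flip b b.2, mul_inv_rev] at h
      exact Commute.inv_inv_iff.1 h
    · intro a b ha hb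
      rw [← orderOf_coe] at ha hb
      exact Subtype.ext ((H.cn_invol ha (mem_C.1 (hQC a.2.1)) a.2.2).trans
        (H.cn_invol hb (mem_C.1 (hQC b.2.1)) b.2.2).symm)
  obtain ⟨c, hc⟩ := (Subgroup.isCyclic_iff_exists_zpowers_eq_top D).1 hcyc
  have hcD : c ∈ D := hc ▸ mem_zpowers c
  have htc : t ∈ zpowers c := by rw [hc]; exact ⟨htQ, H.cn_t⟩
  have hQS' : Q = (S : Subgroup G) → ∃ S : Sylow 2 G, DihLike (S : Subgroup G) := fun he => by
    refine ⟨S, c, s, he ▸ hcD.1, he ▸ hsQ, hs, hc ▸ hsD, flip c hcD, fun g hg => ?_⟩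
    rw [hc]
    exact (dich g (he ▸ hg)).imp id And.right
  by_cases hbig : 2 < orderOf c
  · refine hQS' (by_contra fun hne => ?_)
    obtain ⟨g, hgS, hgQ, hgN⟩ := exists_normalizing hQS hne
    have hgc : g * c * g⁻¹ ∈ Q := (mem_normalizer_iff.1 hgN c).1 hcD.1
    rcases dich _ hgc with h | ⟨h, -⟩
    · refine hgQ (hSC g hgS (mul_inv_eq_iff_eq_mul.1 ?_))
      rw [← hc] at h
      refine invol_zpowers_unique (by rw [H65.orderOf_conj']; exact H.ht) H.ht ?_ htc
      refine zpowers_le.2 h ?_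
      obtain ⟨i, hi⟩ := mem_zpowers_iff.1 htc
      rw [← hi, ← conj_zpow]
      exact zpow_mem (mem_zpowers _) i
    · rw [H65.orderOf_conj'] at h; omega
  have hc2 : orderOf c = 2 := by
    have h1 := orderOf_dvd_of_mem_zpowers htc
    rw [H.ht] at h1
    have := Nat.le_of_dvd (orderOf_pos c) h1
    omega
  have hct : c = t := invol_zpowers_unique hc2 H.ht (mem_zpowers c) htc
  have hDt : ∀ y ∈ D, y = 1 ∨ y = t := fun y hy =>
    eq_one_or_eq_of_mem_zpowers H.ht (hct ▸ hc.symm ▸ hy)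
  have hst2 := H.t_mul_invol hs hst hsnet
  have hQset : (Q : Set G) = {1, t, s, s * t} := by
    ext y
    constructor
    · intro hy
      rcases dich y hy with h | ⟨-, h⟩
      · rcases hDt y h with e | e <;> simp [e]
      · have hy' : y = s * (s * y) := by rw [← mul_assoc, H65.mul_self_eq_one hs, one_mul]
        rcases hDt _ h with e | e <;> rw [e] at hy' <;> simp [hy']
    · rintro (rfl | rfl | rfl | rfl)
      exacts [one_mem Q, htQ, hsQ, mul_mem hsQ htQ]
  have hQ4 : Nat.card ↥Q = 4 := by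
    have e1 : (1 : G) ≠ t := (H65.ne_one_of_orderOf H.ht).symm
    have e2 : (1 : G) ≠ s := (H65.ne_one_of_orderOf hs).symm
    have e3 : (1 : G) ≠ s * t := fun e => hsnet
      ((eq_inv_of_mul_eq_one_left e.symm).trans (H65.inv_eq_self H.ht))
    have e4 : t ≠ s * t := fun e => H65.ne_one_of_orderOf hs (right_eq_mul.1 e)
    have e5 : s ≠ s * t := fun e => H65.ne_one_of_orderOf H.ht (left_eq_mul.1 e)
    rw [← SetLike.coe_sort_coe, Nat.card_coe_set_eq, hQset,
      Set.ncard_insert_of_notMem (by simp [e1, e2, e3]),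
      Set.ncard_insert_of_notMem (by simp [Ne.symm hsnet, e4]),
      Set.ncard_insert_of_notMem (by simp [e5]), Set.ncard_singleton]
  have hC4 : Nat.card ↥(centralizer ({(⟨t, hQS htQ⟩ : ↥(S : Subgroup G))} : Set ↥(S : Subgroup G))) = 4 := by
    rw [← hQ4]
    refine Nat.card_congr
      { toFun := fun z => ⟨(z : ↥(S : Subgroup G)),
          hSC _ z.1.2 (congrArg Subtype.val (mem_centralizer_singleton_iff.1 z.2))⟩
        invFun := fun z => ⟨⟨z, hQS z.2⟩, mem_centralizer_singleton_iff.2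
          (Subtype.ext (mem_C.1 (hQC z.2)).eq)⟩
        left_inv := fun z => rfl
        right_inv := fun z => rfl }
  rcases S3224.result S.2 ⟨t, hQS htQ⟩ (by rw [← orderOf_coe]; exact H.ht) hC4 with
    ⟨n, ⟨e⟩⟩ | h | h
  · refine ⟨S, ((e.symm (DihedralGroup.r 1) : ↥(S : Subgroup G)) : G),
      ((e.symm (DihedralGroup.sr 0) : ↥(S : Subgroup G)) : G), SetLike.coe_mem _, SetLike.coe_mem _,
      by rw [orderOf_coe, MulEquiv.orderOf_eq, DihedralGroup.orderOf_sr], ?_, ?_, ?_⟩
    · intro hmem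
      obtain ⟨i, hi⟩ := mem_zpowers_iff.1 hmem
      rw [← Subgroup.coe_zpow, ← map_zpow, SetLike.coe_eq_coe, e.symm.injective.eq_iff,
        DihedralGroup.r_one_zpow] at hi
      cases hi
    · rw [← Subgroup.coe_inv, ← Subgroup.coe_inv, ← Subgroup.coe_mul, ← Subgroup.coe_mul,
        SetLike.coe_eq_coe, ← map_inv, ← map_inv, ← map_mul, ← map_mul]
      congr 1
      simp
    · intro g hg
      have hpow : ∀ i, ((e.symm (DihedralGroup.r i) : ↥(S : Subgroup G)) : G) ∈
          zpowers ((e.symm (DihedralGroup.r 1) : ↥(S : Subgroup G)) : G) := by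
        intro i
        obtain ⟨j, rfl⟩ := ZMod.intCast_surjective i
        rw [← DihedralGroup.r_one_zpow, map_zpow, Subgroup.coe_zpow]
        exact zpow_mem (mem_zpowers _) j
      rcases hcase : e ⟨g, hg⟩ with i | i
      · left
        have := hpow i
        rwa [← hcase, e.symm_apply_apply] at this
      · right
        have := hpow i
        rw [← sub_zero i, ← DihedralGroup.sr_mul_sr, ← hcase, map_mul,
          e.symm_apply_apply] at this
        exact this
  · exact (not_semidihedral H.hP h).elim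
  · refine hQS' (eq_of_le_of_card_ge hQS ?_)
    rw [hQ4]
    exact h.le

end Odd2

end Cfsg.Agent.H5.EvenCyclic
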